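import Groth.Agent.GraphLib.Potential

/-! Multidegrees on the total blow-up graph. -/

universe u

namespace Groth.Agent.GraphLib

open Finset

variable {V E : Type u} [Fintype V] [Fintype E] [DecidableEq V] [DecidableEq E] (ends : E → V × V) (l : E → ℕ)

/-- values along the path of an edge -/
def pathVal (ψ : LabGraph.BlVert V E l → ℤ) (e : E) (j : ℕ) : ℤ := ψ (LabGraph.pathVert ends l e j)

variable {ends l}

lemma pathVert_zero (e : E) : LabGraph.pathVert ends l e 0 = Sum.inl (ends e).1 := by simp [LabGraph.pathVert]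

lemma pathVert_last {e : E} (hl : 0 < l e) : LabGraph.pathVert ends l e (l e) = Sum.inl (ends e).2 := by
  simp [LabGraph.pathVert, hl.ne']

lemma pathVert_mid {e : E} {i : ℕ} (hi : i < l e - 1) :
    LabGraph.pathVert ends l e (i + 1) = Sum.inr ⟨e, ⟨i, hi⟩⟩ := by
  simp [LabGraph.pathVert, show i + 1 < l e by omega]

lemma mdeg_bl (ψ : LabGraph.BlVert V E l → ℤ) (w : LabGraph.BlVert V E l) :
    LabGraph.mdeg (LabGraph.blEnds ends l) (fun _ => 1) ψ w =
      ∑ e : E, ∑ k ∈ range (l e),
        ((if LabGraph.pathVert ends l e k = w then pathVal ends l ψ e (k + 1) - pathVal ends l ψ e k else 0) +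
          (if LabGraph.pathVert ends l e (k + 1) = w then pathVal ends l ψ e k - pathVal ends l ψ e (k + 1) else 0)) := by
  simp only [LabGraph.mdeg, LabGraph.blEnds, Nat.cast_one, Int.ediv_one, pathVal]
  rw [Fintype.sum_sigma]
  refine sum_congr rfl fun e _ => ?_
  rw [← Fin.sum_univ_eq_sum_range (fun k =>
    ((if LabGraph.pathVert ends l e k = w then ψ (LabGraph.pathVert ends l e (k + 1)) - ψ (LabGraph.pathVert ends l e k) else 0) +
      (if LabGraph.pathVert ends l e (k + 1) = w then ψ (LabGraph.pathVert ends l e k) - ψ (LabGraph.pathVert ends l e (k + 1)) else 0)))]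

lemma pathVert_eq_inr {e e' : E} {k i : ℕ} (hi : i < l e - 1) (hk : k ≤ l e') :
    LabGraph.pathVert ends l e' k = Sum.inr ⟨e, ⟨i, hi⟩⟩ ↔ e' = e ∧ k = i + 1 := by
  constructor
  · intro h
    unfold LabGraph.pathVert at h
    split_ifs at h with h0 h1
    simp only [Sum.inr.injEq, Sigma.mk.injEq] at h
    obtain ⟨rfl, h⟩ := h
    have := congrArg Fin.val (eq_of_heq h)
    simp only at this
    exact ⟨rfl, by omega⟩
  · rintro ⟨rfl, rfl⟩
    exact pathVert_mid hi

lemma mdeg_bl_inr (ψ : LabGraph.BlVert V E l → ℤ) (e : E) {i : ℕ} (hi : i < l e - 1) :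
    LabGraph.mdeg (LabGraph.blEnds ends l) (fun _ => 1) ψ (Sum.inr ⟨e, ⟨i, hi⟩⟩) =
      pathVal ends l ψ e i - 2 * pathVal ends l ψ e (i + 1) + pathVal ends l ψ e (i + 2) := by
  rw [mdeg_bl, sum_eq_single e (fun e' _ hne => sum_eq_zero fun k hk => by
    rw [if_neg fun h => hne ((pathVert_eq_inr hi (mem_range.1 hk).le).1 h).1,
      if_neg fun h => hne ((pathVert_eq_inr hi (mem_range.1 hk)).1 h).1, add_zero]) (by simp),
    sum_add_distrib, sum_eq_single (i + 1) (fun k hk hne =>
      if_neg fun h => hne ((pathVert_eq_inr hi (mem_range.1 hk).le).1 h).2)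
      (fun h => absurd (mem_range.2 (by omega)) h),
    sum_eq_single i (fun k hk hne =>
      if_neg fun h => hne (by have := ((pathVert_eq_inr hi (mem_range.1 hk)).1 h).2; omega))
      (fun h => absurd (mem_range.2 (by omega)) h),
    if_pos (pathVert_mid hi), if_pos (pathVert_mid hi)]
  ring

lemma mdeg_bl_inl (hl : ∀ e, 0 < l e) (ψ : LabGraph.BlVert V E l → ℤ) (v : V) :
    LabGraph.mdeg (LabGraph.blEnds ends l) (fun _ => 1) ψ (Sum.inl v) =
      ∑ e : E, ((if (ends e).1 = v then pathVal ends l ψ e 1 - pathVal ends l ψ e 0 else 0) +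
        (if (ends e).2 = v then pathVal ends l ψ e (l e - 1) - pathVal ends l ψ e (l e) else 0)) := by
  rw [mdeg_bl]
  refine sum_congr rfl fun e _ => ?_
  have hle := hl e
  rw [sum_add_distrib]
  congr 1
  · rw [sum_eq_single 0 (fun k hk hne => if_neg ?_) (fun h => absurd (mem_range.2 hle) h), pathVert_zero]
    · simp
    · rw [LabGraph.pathVert, dif_neg hne, dif_pos (mem_range.1 hk)]; simp
  · rw [sum_eq_single (l e - 1) (fun k hk hne => if_neg ?_) (fun h => absurd (mem_range.2 (by omega)) h),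
      show l e - 1 + 1 = l e by omega, pathVert_last hle]
    · simp
    · have hk' := mem_range.1 hk
      rw [LabGraph.pathVert, dif_neg (Nat.succ_ne_zero k), dif_pos (show k + 1 < l e by omega)]; simp

end Groth.Agent.GraphLib
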