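import Groth.Agent.GraphLib.MultFn

/-! Contraction of a chain in a graph with multiplicity function. -/

universe u

namespace Groth.Agent.GraphLib

open Finset

variable {V E : Type u} [Fintype V] [Fintype E] [DecidableEq V] [DecidableEq E] {ends : E → V × V} {β : V → ℤ}

section ctr

variable {D : Finset E}

lemma const_of_rel (hD : ∀ e ∈ D, β (ends e).1 = β (ends e).2) {v w : V}
    (h : DualGr.ctrMk ends D v = DualGr.ctrMk ends D w) : β v = β w := by
  have h' : Relation.EqvGen (DualGr.CtrRel ends D) v w := Quotient.exact (s := DualGr.ctrSetoid ends D) h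
  clear h
  induction h' with
  | rel x y hxy => obtain ⟨e, he, hxy⟩ := hxy; simpa [hxy] using hD e he
  | refl => rfl
  | symm _ _ _ ih => exact ih.symm
  | trans _ _ _ _ _ ih₁ ih₂ => exact ih₁.trans ih₂

lemma ctrFn_mk (hD : ∀ e ∈ D, β (ends e).1 = β (ends e).2) (v : V) :
    LabGraph.ctrFn ends D β (DualGr.ctrMk ends D v) = β v :=
  const_of_rel hD (Quotient.out_eq (s := DualGr.ctrSetoid ends D) _)

lemma pushV_apply (φ : V → ℤ) (c : DualGr.CtrVert ends D) :
    DualGr.pushV ends D φ c = ∑ x ∈ univ.filter (fun x => DualGr.ctrMk ends D x = c), φ x := rfl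

lemma betaHom_apply {W : Type u} [Fintype W] (b : W → ℤ) (y : W → ℤ) : LabGraph.betaHom b y = ∑ v, y v * b v := by
  simp [LabGraph.betaHom, Fintype.linearCombination_apply]

lemma betaHom_pushV (hD : ∀ e ∈ D, β (ends e).1 = β (ends e).2) (φ : V → ℤ) :
    LabGraph.betaHom (LabGraph.ctrFn ends D β) (DualGr.pushV ends D φ) = LabGraph.betaHom β φ := by
  rw [betaHom_apply, betaHom_apply]
  simp only [pushV_apply, sum_mul]
  rw [← sum_fiberwise univ (DualGr.ctrMk ends D) (fun v => φ v * β v)]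
  refine sum_congr rfl fun c _ => sum_congr rfl fun v hv => ?_
  rw [← (mem_filter.1 hv).2, ctrFn_mk hD]

lemma edgeMult_ctr {c d : DualGr.CtrVert ends D} (hcd : c ≠ d) :
    (LabGraph.edgeMult (DualGr.ctrEnds ends D) c d : ℤ) =
      ∑ v ∈ univ.filter (fun x => DualGr.ctrMk ends D x = c),
        ∑ w ∈ univ.filter (fun x => DualGr.ctrMk ends D x = d), LabGraph.mfMatrix ends β v w := by
  classical
  have e1 : ∀ v ∈ univ.filter (fun x => DualGr.ctrMk ends D x = c),
      ∑ w ∈ univ.filter (fun x => DualGr.ctrMk ends D x = d), LabGraph.mfMatrix ends β v w =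
      ∑ w ∈ univ.filter (fun x => DualGr.ctrMk ends D x = d),
        ∑ e : E, ((if ends e = (v, w) then 1 else 0) + (if ends e = (w, v) then 1 else 0) : ℤ) := by
    intro v hv
    refine sum_congr rfl fun w hw => ?_
    have hvw : v ≠ w := fun h => hcd ((mem_filter.1 hv).2.symm.trans (h ▸ (mem_filter.1 hw).2))
    simp only [LabGraph.mfMatrix, if_neg hvw, LabGraph.edgeMult, card_filter, Nat.cast_sum]
    refine sum_congr rfl fun e _ => ?_
    by_cases h1 : ends e = (v, w) <;> by_cases h2 : ends e = (w, v) <;> simp_all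
  rw [sum_congr rfl e1]
  conv_rhs => enter [2, v]; rw [sum_comm]
  rw [sum_comm, LabGraph.edgeMult, card_filter, Nat.cast_sum]
  have e2 : ∀ e : E, ∑ v ∈ univ.filter (fun x => DualGr.ctrMk ends D x = c),
      ∑ w ∈ univ.filter (fun x => DualGr.ctrMk ends D x = d),
        ((if ends e = (v, w) then 1 else 0) + (if ends e = (w, v) then 1 else 0) : ℤ) =
      (if (DualGr.ctrMk ends D (ends e).1, DualGr.ctrMk ends D (ends e).2) = (c, d) ∨
          (DualGr.ctrMk ends D (ends e).1, DualGr.ctrMk ends D (ends e).2) = (d, c) then 1 else 0) := by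
    intro e
    rcases ends e with ⟨x, y⟩
    simp only [sum_add_distrib, Prod.mk.injEq, ite_and, sum_ite_irrel, sum_const_zero, sum_ite_eq, mem_filter, mem_univ,
      true_and]
    by_cases h1 : DualGr.ctrMk ends D x = c <;> by_cases h2 : DualGr.ctrMk ends D y = d <;>
      by_cases h3 : DualGr.ctrMk ends D y = c <;> by_cases h4 : DualGr.ctrMk ends D x = d <;>
      simp_all
  simp only [e2]
  rw [← sum_filter_add_sum_filter_not univ (fun e : E => e ∈ D)]
  rw [sum_eq_zero fun e he => if_neg ?_, zero_add]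
  · rw [sum_subtype (univ.filter fun e : E => ¬ e ∈ D) (p := fun e => e ∉ D) (by simp)]
    refine sum_congr rfl fun e _ => ?_
    rw [Nat.cast_ite, Nat.cast_one, Nat.cast_zero]
    rfl
  · rw [DualGr.ctrMk_fst_eq_ctrMk_snd ends D (mem_filter.1 he).2]
    rintro (h | h) <;> simp only [Prod.mk.injEq] at h
    · exact hcd (h.1.symm.trans h.2)
    · exact hcd (h.2.symm.trans h.1)

/-- the push-forward of the matrix -/
lemma pushV_mulVec_pullback (hβ : LabGraph.IsMultFn ends β) (hD : ∀ e ∈ D, β (ends e).1 = β (ends e).2) :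
    LabGraph.IsMultFn (DualGr.ctrEnds ends D) (LabGraph.ctrFn ends D β) ∧
    ∀ y : DualGr.CtrVert ends D → ℤ,
      (LabGraph.mfMatrix (DualGr.ctrEnds ends D) (LabGraph.ctrFn ends D β)).mulVec y =
        DualGr.pushV ends D ((LabGraph.mfMatrix ends β).mulVec fun v => y (DualGr.ctrMk ends D v)) := by
  classical
  set b := LabGraph.ctrFn ends D β with hb
  let Q : DualGr.CtrVert ends D → DualGr.CtrVert ends D → ℤ := fun c d =>
    ∑ v ∈ univ.filter (fun x => DualGr.ctrMk ends D x = c),
      ∑ w ∈ univ.filter (fun x => DualGr.ctrMk ends D x = d), LabGraph.mfMatrix ends β v w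
  have hpush : ∀ (y : DualGr.CtrVert ends D → ℤ) c,
      DualGr.pushV ends D ((LabGraph.mfMatrix ends β).mulVec fun v => y (DualGr.ctrMk ends D v)) c = ∑ d, Q c d * y d := by
    intro y c
    simp only [pushV_apply, Q, sum_mul, Matrix.mulVec, dotProduct]
    rw [sum_comm (s := univ) (t := univ.filter fun x => DualGr.ctrMk ends D x = c)]
    refine sum_congr rfl fun v _ => ?_
    rw [← sum_fiberwise univ (DualGr.ctrMk ends D)
      (fun w => LabGraph.mfMatrix ends β v w * y (DualGr.ctrMk ends D w))]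
    exact sum_congr rfl fun d _ => sum_congr rfl fun w hw => by rw [(mem_filter.1 hw).2]
  have hQrow : ∀ c, ∑ d, Q c d * b d = 0 := fun c => by
    rw [← hpush b c, show (fun v => b (DualGr.ctrMk ends D v)) = β from funext (ctrFn_mk hD), pushV_apply]
    exact sum_eq_zero fun v _ => mfMatrix_row hβ v
  have hsum : ∀ c, ∑ d ∈ univ.erase c, b d * (LabGraph.edgeMult (DualGr.ctrEnds ends D) c d : ℤ) = -(Q c c * b c) := by
    intro c
    have h := hQrow c
    rw [← add_sum_erase _ _ (mem_univ c)] at h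
    rw [sum_congr rfl fun d hd => show b d * (LabGraph.edgeMult (DualGr.ctrEnds ends D) c d : ℤ) = Q c d * b d by
      rw [edgeMult_ctr (β := β) (Ne.symm (mem_erase.1 hd).1), mul_comm]]
    linarith
  have hbpos : ∀ c, 0 < b c := fun c => (hβ _).1
  have hmult : LabGraph.IsMultFn (DualGr.ctrEnds ends D) b := fun c =>
    ⟨hbpos c, ⟨-Q c c, by rw [hsum c]; ring⟩⟩
  refine ⟨hmult, fun y => funext fun c => ?_⟩
  rw [hpush]
  refine sum_congr rfl fun d _ => ?_
  congr 1
  by_cases hcd : c = d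
  · subst hcd
    simp only [LabGraph.mfMatrix, if_true, hsum c, neg_neg]
    exact Int.mul_ediv_cancel _ (hbpos c).ne'
  · simp only [LabGraph.mfMatrix, if_neg hcd]
    exact edgeMult_ctr hcd

end ctr

/-- data of a connecting chain of length `m` -/
structure Chain (ends : E → V × V) (β : V → ℤ) (D : Finset E) (m : ℕ) (F : ℕ → V) : Prop where
  mult : LabGraph.IsMultFn ends β
  pos : 0 < m
  inj : ∀ i ≤ m, ∀ j ≤ m, F i = F j → i = j
  adj : ∀ i < m, LabGraph.mfMatrix ends β (F i) (F (i + 1)) = 1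
  beta : ∀ i ≤ m, β (F i) = m
  diag : ∀ i ≤ m, LabGraph.mfMatrix ends β (F i) (F i) = -2
  hD : ∀ e ∈ D, β (ends e).1 = β (ends e).2
  cls : ∀ v w, DualGr.ctrMk ends D v = DualGr.ctrMk ends D w ↔
    (v = w ∨ ((∃ i ≤ m, v = F i) ∧ ∃ j ≤ m, w = F j))
  cut : ∃ A : Finset V, F 0 ∈ A ∧ (∀ i, 1 ≤ i → i ≤ m → F i ∉ A) ∧
    ∀ a b, a ∈ A → b ∉ A → LabGraph.mfMatrix ends β a b ≠ 0 → a = F 0 ∧ b = F 1

namespace Chain

variable {D : Finset E} {m : ℕ} {F : ℕ → V} (h : Chain ends β D m F)
include h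

lemma middle {k : ℕ} (hk : k + 2 ≤ m) {u : V} (h1 : u ≠ F k) (h2 : u ≠ F (k + 1)) (h3 : u ≠ F (k + 2)) :
    LabGraph.mfMatrix ends β (F (k + 1)) u = 0 := by
  have hrow := mfMatrix_row h.mult (F (k + 1))
  have d1 : F k ≠ F (k + 1) := fun e => by have := h.inj k (by omega) (k + 1) (by omega) e; omega
  have d2 : F (k + 2) ≠ F (k + 1) := fun e => by have := h.inj (k + 2) hk (k + 1) (by omega) e; omega
  have d3 : F k ≠ F (k + 2) := fun e => by have := h.inj k (by omega) (k + 2) hk e; omega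
  rw [← add_sum_erase _ _ (mem_univ (F (k + 1))), ← add_sum_erase _ _ (mem_erase.2 ⟨d1, mem_univ (F k)⟩),
    ← add_sum_erase _ _ (mem_erase.2 ⟨Ne.symm d3, mem_erase.2 ⟨d2, mem_univ (F (k + 2))⟩⟩)] at hrow
  rw [h.diag _ (by omega), mfMatrix_symm (F (k + 1)) (F k), h.adj k (by omega), h.adj (k + 1) (by omega),
    h.beta _ (by omega), h.beta k (by omega), h.beta _ hk] at hrow
  have hzero : ∑ x ∈ ((univ.erase (F (k + 1))).erase (F k)).erase (F (k + 2)),
      LabGraph.mfMatrix ends β (F (k + 1)) x * β x = 0 := by linarith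
  have := (sum_eq_zero_iff_of_nonneg fun x hx => ?_).1 hzero u (by simp [h1, h2, h3])
  · exact (mul_eq_zero.1 this).resolve_right (h.mult u).1.ne'
  · refine mul_nonneg ?_ (h.mult x).1.le
    have : F (k + 1) ≠ x := by simp only [mem_erase] at hx; exact Ne.symm hx.2.2.1
    simp [LabGraph.mfMatrix, this]

lemma mulVec_middle (z : V → ℤ) {k : ℕ} (hk : k + 2 ≤ m) :
    (LabGraph.mfMatrix ends β).mulVec z (F (k + 1)) = z (F k) - 2 * z (F (k + 1)) + z (F (k + 2)) := by
  have d1 : F k ≠ F (k + 1) := fun e => by have := h.inj k (by omega) (k + 1) (by omega) e; omega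
  have d2 : F (k + 2) ≠ F (k + 1) := fun e => by have := h.inj (k + 2) hk (k + 1) (by omega) e; omega
  have d3 : F k ≠ F (k + 2) := fun e => by have := h.inj k (by omega) (k + 2) hk e; omega
  rw [Matrix.mulVec, dotProduct, ← sum_subset (subset_univ {F k, F (k + 1), F (k + 2)}) fun u _ hu => by
    simp only [mem_insert, mem_singleton, not_or] at hu
    rw [h.middle hk hu.1 hu.2.1 hu.2.2, zero_mul]]
  rw [sum_insert (by simp [d1, d3]), sum_pair d2.symm, h.diag _ (by omega), mfMatrix_symm (F (k + 1)) (F k),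
    h.adj k (by omega), h.adj (k + 1) (by omega)]
  ring

open Classical in
lemma mulVec_last (z : V → ℤ) :
    (LabGraph.mfMatrix ends β).mulVec z (F m) = z (F (m - 1)) - 2 * z (F m) +
      ∑ u ∈ univ.filter (fun u => ∀ i ≤ m, u ≠ F i), LabGraph.mfMatrix ends β (F m) u * z u := by
  have hm := h.pos
  have d : F (m - 1) ≠ F m := fun e => by have := h.inj (m - 1) (by omega) m le_rfl e; omega
  rw [Matrix.mulVec, dotProduct, ← sum_filter_add_sum_filter_not univ (fun u => ∀ i ≤ m, u ≠ F i), add_comm]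
  congr 1
  rw [← sum_subset (s₁ := {F (m - 1), F m}) ?_ fun u hu hu' => ?_]
  · rw [sum_pair d, h.diag m le_rfl, mfMatrix_symm]
    have := h.adj (m - 1) (by omega)
    rw [show m - 1 + 1 = m by omega] at this
    rw [this]; ring
  · intro u hu
    simp only [mem_insert, mem_singleton] at hu
    simp only [mem_filter, mem_univ, true_and, not_forall, not_not]
    rcases hu with rfl | rfl
    · exact ⟨m - 1, by omega, rfl⟩
    · exact ⟨m, le_rfl, rfl⟩
  · simp only [mem_filter, mem_univ, true_and, not_forall, not_not] at hu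
    simp only [mem_insert, mem_singleton, not_or] at hu'
    obtain ⟨i, hi, rfl⟩ := hu
    have hi1 : i ≠ m - 1 := fun e => hu'.1 (e ▸ rfl)
    have hi2 : i ≠ m := fun e => hu'.2 (e ▸ rfl)
    rcases Nat.eq_zero_or_pos i with rfl | hi0
    · obtain ⟨A, hA0, hAi, hA⟩ := h.cut
      by_contra hne
      have hne' : LabGraph.mfMatrix ends β (F m) (F 0) ≠ 0 := fun e => hne (by rw [e, zero_mul])
      rw [mfMatrix_symm] at hne'
      have := h.inj m le_rfl 1 hm (hA _ _ hA0 (hAi m hm le_rfl) hne').2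
      omega
    · rw [mfMatrix_symm]
      obtain ⟨k, rfl⟩ : ∃ k, i = k + 1 := ⟨i - 1, by omega⟩
      rw [h.middle (by omega) ?_ ?_ ?_, zero_mul]
      all_goals intro e; have := h.inj _ le_rfl _ (by omega) e; omega

open Classical in
lemma off_sum_beta :
    ∑ u ∈ univ.filter (fun u => ∀ i ≤ m, u ≠ F i), LabGraph.mfMatrix ends β (F m) u * β u = m := by
  have h1 := h.mulVec_last β
  rw [show (LabGraph.mfMatrix ends β).mulVec β (F m) = 0 from mfMatrix_row h.mult _, h.beta m le_rfl,
    h.beta (m - 1) (by omega)] at h1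
  linarith

/-- the function moving `F m` onto `F 0` -/
lemma exists_shift : ∃ w : V → ℤ, (∀ i ≤ m, w (F i) = i) ∧
    (LabGraph.mfMatrix ends β).mulVec w = Pi.single (F 0) 1 - Pi.single (F m) 1 := by
  classical
  obtain ⟨A, hA0, hAi, hA⟩ := h.cut
  have hm := h.pos
  let w : V → ℤ := fun v => if v ∈ A then 0 else if hv : ∃ i ≤ m, v = F i then (hv.choose : ℤ) else β v
  have hw : ∀ i ≤ m, w (F i) = i := by
    intro i hi
    rcases Nat.eq_zero_or_pos i with rfl | hi0
    · simp [w, hA0]
    · have hex : ∃ j ≤ m, F i = F j := ⟨i, hi, rfl⟩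
      simp only [w, if_neg (hAi i hi0 hi), dif_pos hex]
      rw [h.inj _ hex.choose_spec.1 i hi hex.choose_spec.2.symm]
  have hwoff : ∀ u, (∀ i ≤ m, u ≠ F i) → u ∉ A → w u = β u := fun u hu huA => by
    have : ¬ ∃ i ≤ m, u = F i := fun ⟨i, hi, e⟩ => hu i hi e
    simp [w, huA, this]
  refine ⟨w, hw, funext fun v => ?_⟩
  by_cases hv : ∃ i ≤ m, v = F i
  · obtain ⟨i, hi, rfl⟩ := hv
    have d0 : ∀ j ≤ m, j ≠ i → (Pi.single (F j) (1 : ℤ) : V → ℤ) (F i) = 0 := fun j hj hne =>
      Pi.single_eq_of_ne (fun e => hne (h.inj j hj i hi e.symm)) _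
    rcases Nat.eq_zero_or_pos i with rfl | hi0
    · rw [Pi.sub_apply, Pi.single_eq_same, d0 m le_rfl (by omega), sub_zero, Matrix.mulVec, dotProduct,
        sum_eq_single (F 1)]
      · have := h.adj 0 hm
        rw [zero_add] at this
        rw [this, hw 1 hm]; norm_num
      · intro u _ hu
        by_cases huA : u ∈ A
        · simp [w, huA]
        · by_contra hne
          exact hu (hA _ _ hA0 huA fun e => hne (by rw [e, zero_mul])).2
      · simp
    rcases eq_or_ne i m with rfl | hine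
    · rw [Pi.sub_apply, Pi.single_eq_same, d0 0 (by omega) (by omega), h.mulVec_last, hw _ le_rfl,
        hw _ (by omega)]
      rw [sum_congr rfl fun u hu => show LabGraph.mfMatrix ends β (F i) u * w u =
          LabGraph.mfMatrix ends β (F i) u * β u from ?_, h.off_sum_beta]
      · push_cast [show 1 ≤ i from hi0]; ring
      · rcases eq_or_ne (LabGraph.mfMatrix ends β (F i) u) 0 with e | e
        · simp [e]
        · simp only [mem_filter, mem_univ, true_and] at hu
          rw [hwoff u hu fun huA => ?_]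
          rw [mfMatrix_symm] at e
          exact hu 0 (by omega) (hA _ _ huA (hAi i hi0 le_rfl) e).1
    · obtain ⟨k, rfl⟩ : ∃ k, i = k + 1 := ⟨i - 1, by omega⟩
      rw [Pi.sub_apply, d0 0 (by omega) (by omega), d0 m le_rfl (by omega), h.mulVec_middle w (by omega), hw _ hi,
        hw k (by omega), hw (k + 2) (by omega)]
      push_cast; ring
  · push Not at hv
    rw [Pi.sub_apply, Pi.single_eq_of_ne (hv 0 (by omega)) _, Pi.single_eq_of_ne (hv m le_rfl) _, sub_zero]
    by_cases hvA : v ∈ A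
    · rw [Matrix.mulVec, dotProduct]
      refine sum_eq_zero fun u _ => ?_
      by_cases huA : u ∈ A
      · simp [w, huA]
      · by_contra hne
        exact hv 0 (by omega) (hA _ _ hvA huA fun e => hne (by rw [e, zero_mul])).1
    · rw [Matrix.mulVec, dotProduct, ← mfMatrix_row h.mult v]
      refine sum_congr rfl fun u _ => ?_
      rcases eq_or_ne (LabGraph.mfMatrix ends β v u) 0 with e | e
      · simp [e]
      have huA : u ∉ A := fun huA => hv 1 hm ((hA _ _ huA hvA (by rwa [mfMatrix_symm])).2)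
      by_cases hu : ∃ i ≤ m, u = F i
      · obtain ⟨i, hi, rfl⟩ := hu
        rw [hw i hi, h.beta i hi]
        suffices him : i = m by subst him; rfl
        by_contra him
        rcases Nat.eq_zero_or_pos i with rfl | hi0
        · exact huA hA0
        obtain ⟨k, rfl⟩ : ∃ k, i = k + 1 := ⟨i - 1, by omega⟩
        exact e (by rw [mfMatrix_symm, h.middle (by omega) (hv _ (by omega)) (hv _ hi) (hv _ (by omega))])
      · push Not at hu
        rw [hwoff u hu huA]

lemma liftAt_off (x : DualGr.CtrVert ends D → ℤ) {v : V} (hv : ∀ i ≤ m, v ≠ F i) :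
    LabGraph.liftAt ends D (F 0) x v = x (DualGr.ctrMk ends D v) := by
  refine if_neg fun hh => ?_
  rcases (h.cls _ _).1 hh.1 with e | ⟨⟨i, hi, e⟩, -⟩
  · exact hh.2 e
  · exact hv i hi e

lemma liftAt_zero (x : DualGr.CtrVert ends D → ℤ) :
    LabGraph.liftAt ends D (F 0) x (F 0) = x (DualGr.ctrMk ends D (F 0)) := if_neg fun hh => hh.2 rfl

lemma liftAt_chain (x : DualGr.CtrVert ends D → ℤ) {i : ℕ} (hi : i ≤ m) (h0 : i ≠ 0) :
    LabGraph.liftAt ends D (F 0) x (F i) = 0 :=
  if_pos ⟨(h.cls _ _).2 (Or.inr ⟨⟨i, hi, rfl⟩, ⟨0, by omega, rfl⟩⟩), fun e => h0 (h.inj i hi 0 (by omega) e)⟩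

lemma mk_F {i : ℕ} (hi : i ≤ m) : DualGr.ctrMk ends D (F i) = DualGr.ctrMk ends D (F 0) :=
  (h.cls _ _).2 (Or.inr ⟨⟨i, hi, rfl⟩, ⟨0, by omega, rfl⟩⟩)

lemma push_lift (x : DualGr.CtrVert ends D → ℤ) :
    DualGr.pushV ends D (LabGraph.liftAt ends D (F 0) x) = x := by
  classical
  funext c
  obtain ⟨v, rfl⟩ := DualGr.ctrMk_surjective ends D c
  by_cases hv : ∃ i ≤ m, v = F i
  · obtain ⟨i, hi, rfl⟩ := hv
    rw [pushV_apply, h.mk_F hi, sum_eq_single (F 0) ?_ (by simp), h.liftAt_zero]
    intro u hu hne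
    exact if_pos ⟨(mem_filter.1 hu).2, hne⟩
  · push Not at hv
    rw [pushV_apply, sum_eq_single v (fun u hu hne => absurd ((h.cls u v).1 (mem_filter.1 hu).2) fun hc => by
      rcases hc with e | ⟨-, j, hj, e⟩
      · exact hne e
      · exact hv j hj e) (by simp), h.liftAt_off x hv]

lemma lift_push {v : V → ℤ} (hv : ∀ i, 1 ≤ i → i < m → v (F i) = 0) :
    LabGraph.liftAt ends D (F 0) (DualGr.pushV ends D v) = v + v (F m) • (Pi.single (F 0) 1 - Pi.single (F m) 1) := by
  classical
  have hm := h.pos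
  funext u
  simp only [Pi.add_apply, Pi.smul_apply, Pi.sub_apply, smul_eq_mul]
  by_cases hu : ∃ i ≤ m, u = F i
  · obtain ⟨i, hi, rfl⟩ := hu
    rcases Nat.eq_zero_or_pos i with rfl | hi0
    · rw [h.liftAt_zero, pushV_apply, Pi.single_eq_same,
        Pi.single_eq_of_ne (fun e => by have := h.inj 0 (by omega) m le_rfl e; omega) _,
        ← sum_subset (s₁ := {F 0, F m}) ?_ fun x hx hx' => ?_, sum_pair ?_]
      · ring
      · intro e; have := h.inj 0 (by omega) m le_rfl e; omega
      · intro x hx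
        simp only [mem_insert, mem_singleton] at hx
        rcases hx with rfl | rfl
        · simp
        · simp [h.mk_F le_rfl]
      · simp only [mem_filter, mem_univ, true_and] at hx
        simp only [mem_insert, mem_singleton, not_or] at hx'
        rcases (h.cls _ _).1 hx with e | ⟨⟨j, hj, rfl⟩, -⟩
        · exact absurd e hx'.1
        · exact hv j (by by_contra hj0; exact hx'.1 (by rw [show j = 0 by omega]))
            (by by_contra hjm; exact hx'.2 (by rw [show j = m by omega]))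
    · rw [h.liftAt_chain _ hi (by omega),
        Pi.single_eq_of_ne (fun e => by have := h.inj i hi 0 (by omega) e; omega) _]
      rcases eq_or_ne i m with rfl | hine
      · rw [Pi.single_eq_same]; ring
      · rw [Pi.single_eq_of_ne (fun e => hine (h.inj i hi m le_rfl e)) _, hv i hi0 (by omega)]; ring
  · push Not at hu
    rw [h.liftAt_off _ hu, pushV_apply, Pi.single_eq_of_ne (hu 0 (by omega)) _, Pi.single_eq_of_ne (hu m le_rfl) _,
      sum_eq_single u (fun x hx hne => absurd ((h.cls x u).1 (mem_filter.1 hx).2) fun hc => by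
        rcases hc with e | ⟨-, j, hj, e⟩
        · exact hne e
        · exact hu j hj e) (by simp)]
    ring

lemma ctr_mulVec (y : DualGr.CtrVert ends D → ℤ) :
    (LabGraph.mfMatrix (DualGr.ctrEnds ends D) (LabGraph.ctrFn ends D β)).mulVec y =
      DualGr.pushV ends D ((LabGraph.mfMatrix ends β).mulVec fun v => y (DualGr.ctrMk ends D v)) :=
  (pushV_mulVec_pullback h.mult h.hD).2 y

/-- well-definedness of the lift -/
theorem lift_mem_range (y : DualGr.CtrVert ends D → ℤ) :
    LabGraph.liftAt ends D (F 0) ((LabGraph.mfMatrix (DualGr.ctrEnds ends D) (LabGraph.ctrFn ends D β)).mulVec y) ∈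
      LinearMap.range (Matrix.mulVecLin (LabGraph.mfMatrix ends β)) := by
  obtain ⟨w, -, hw⟩ := h.exists_shift
  set Y := fun v => y (DualGr.ctrMk ends D v) with hY
  have hmid : ∀ i, 1 ≤ i → i < m → (LabGraph.mfMatrix ends β).mulVec Y (F i) = 0 := fun i h1 h2 => by
    obtain ⟨k, rfl⟩ : ∃ k, i = k + 1 := ⟨i - 1, by omega⟩
    rw [h.mulVec_middle Y (by omega)]
    simp only [hY, h.mk_F (show k ≤ m by omega), h.mk_F (show k + 1 ≤ m by omega), h.mk_F (show k + 2 ≤ m by omega)]
    ring
  refine ⟨Y + (LabGraph.mfMatrix ends β).mulVec Y (F m) • w, ?_⟩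
  rw [h.ctr_mulVec, h.lift_push hmid, Matrix.mulVecLin_apply, Matrix.mulVec_add, Matrix.mulVec_smul, hw]

/-- injectivity of the lift -/
theorem mem_range_of_lift (x : DualGr.CtrVert ends D → ℤ)
    (hx : LabGraph.liftAt ends D (F 0) x ∈ LinearMap.range (Matrix.mulVecLin (LabGraph.mfMatrix ends β))) :
    x ∈ LinearMap.range (Matrix.mulVecLin
      (LabGraph.mfMatrix (DualGr.ctrEnds ends D) (LabGraph.ctrFn ends D β))) := by
  obtain ⟨z, hz⟩ := hx
  rw [Matrix.mulVecLin_apply] at hz
  obtain ⟨w, hwi, hw⟩ := h.exists_shift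
  have hm := h.pos
  set d := z (F 1) - z (F 0) with hd
  have hlin : ∀ i, i + 1 ≤ m → z (F (i + 1)) - z (F i) = d := by
    intro i
    induction i with
    | zero => intro; rfl
    | succ k ih =>
      intro hk
      have h1 := h.mulVec_middle z (k := k) (by omega)
      rw [hz, h.liftAt_chain x (by omega) (by omega)] at h1
      linarith [ih (by omega)]
  have hlin' : ∀ i ≤ m, z (F i) = z (F 0) + i * d := by
    intro i
    induction i with
    | zero => simp
    | succ k ih => intro hk; have := hlin k hk; have := ih (by omega); push_cast; linarith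
  set z' := z - d • w with hz'
  have hconst : ∀ v v', DualGr.ctrMk ends D v = DualGr.ctrMk ends D v' → z' v = z' v' := by
    intro v v' hvv
    rcases (h.cls _ _).1 hvv with rfl | ⟨⟨i, hi, rfl⟩, j, hj, rfl⟩
    · rfl
    · simp only [hz', Pi.sub_apply, Pi.smul_apply, smul_eq_mul, hwi i hi, hwi j hj, hlin' i hi, hlin' j hj]; ring
  refine ⟨fun c => z' (Quotient.out (s := DualGr.ctrSetoid ends D) c), ?_⟩
  rw [Matrix.mulVecLin_apply, h.ctr_mulVec,
    show (fun v => z' (Quotient.out (s := DualGr.ctrSetoid ends D) (DualGr.ctrMk ends D v))) = z' from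
      funext fun v => hconst _ _ (Quotient.out_eq (s := DualGr.ctrSetoid ends D) _),
    hz', Matrix.mulVec_sub, Matrix.mulVec_smul, hz, hw, map_sub, map_smul, h.push_lift]
  suffices DualGr.pushV ends D (Pi.single (F 0) 1 - Pi.single (F m) (1 : ℤ)) = 0 by rw [this, smul_zero, sub_zero]
  funext c
  simp only [pushV_apply, Pi.sub_apply, sum_sub_distrib, Pi.zero_apply, sum_pi_single', mem_filter, mem_univ,
    true_and, h.mk_F le_rfl, sub_self]

/-- surjectivity of the lift -/
theorem exists_lift (y : V → ℤ) : ∃ x z, y = LabGraph.liftAt ends D (F 0) x + (LabGraph.mfMatrix ends β).mulVec z := by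
  classical
  have hm := h.pos
  let q : ℕ → ℤ × ℤ := fun i => Nat.rec (0, 0) (fun k p => (p.2, y (F (k + 1)) + 2 * p.2 - p.1)) i
  let s : ℕ → ℤ := fun i => (q i).1
  have hs : ∀ k, s (k + 2) = y (F (k + 1)) + 2 * s (k + 1) - s k := fun k => rfl
  set r := y (F m) - s (m - 1) + 2 * s m with hr
  let z : V → ℤ := fun v => if hv : ∃ i ≤ m, v = F i then s hv.choose + hv.choose * -r
    else (y (F m) - (s (m - 1) + ((m - 1 : ℕ) : ℤ) * -r) + 2 * (s m + (m : ℤ) * -r)) / m * β v
  have hzF : ∀ i ≤ m, z (F i) = s i + i * -r := fun i hi => by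
    have hex : ∃ j ≤ m, F i = F j := ⟨i, hi, rfl⟩
    have e : hex.choose = i := (h.inj _ hex.choose_spec.1 _ hi hex.choose_spec.2.symm)
    simp only [z, dif_pos hex, e]
  set R := y (F m) - (s (m - 1) + ((m - 1 : ℕ) : ℤ) * -r) + 2 * (s m + (m : ℤ) * -r) with hR
  have hdvd : (m : ℤ) ∣ R := ⟨-r, by rw [hR, Nat.cast_sub (by omega : 1 ≤ m)]; push_cast; linarith⟩
  have hzoff : ∀ u, (∀ i ≤ m, u ≠ F i) → z u = R / m * β u := fun u hu => by
    have : ¬ ∃ i ≤ m, u = F i := fun ⟨i, hi, e⟩ => hu i hi e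
    simp [z, this, hR]
  set v := y - (LabGraph.mfMatrix ends β).mulVec z with hv
  have hv0 : ∀ i, 1 ≤ i → i ≤ m → v (F i) = 0 := by
    intro i h1 h2
    rcases eq_or_ne i m with rfl | hine
    · rw [hv, Pi.sub_apply, h.mulVec_last, hzF _ (by omega), hzF _ le_rfl,
        sum_congr rfl fun u hu => show LabGraph.mfMatrix ends β (F i) u * z u =
          R / i * (LabGraph.mfMatrix ends β (F i) u * β u) by rw [hzoff u (mem_filter.1 hu).2]; ring,
        ← mul_sum, h.off_sum_beta, Int.ediv_mul_cancel hdvd, hR]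
      ring
    · obtain ⟨k, rfl⟩ : ∃ k, i = k + 1 := ⟨i - 1, by omega⟩
      rw [hv, Pi.sub_apply, h.mulVec_middle z (by omega), hzF k (by omega), hzF _ (by omega), hzF (k + 2) (by omega), hs]
      push_cast; ring
  refine ⟨DualGr.pushV ends D v, z, ?_⟩
  rw [h.lift_push fun i a b => hv0 i a b.le, hv0 m hm le_rfl, zero_smul, add_zero, hv, sub_add_cancel]

end Chain

/-- build the chain data from the prelude's hypotheses -/
theorem chain_of (hβ : LabGraph.IsMultFn ends β) {m : ℕ} (f : Fin (m + 1) → V) (e : Fin m → E)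
    (hC : LabGraph.IsChain ends f e) (hconn : ∀ i, LabGraph.IsConnecting ends (e i)) (hβm : ∀ i, β (f i) = m)
    (hα : ∀ i, LabGraph.mfMatrix ends β (f i) (f i) = -2) :
    Chain ends β (univ.image e) m (fun i => f ⟨min i m, by omega⟩) := by
  classical
  obtain ⟨hf, he, hends⟩ := hC
  have hm : 0 < m := by
    have := hβm 0 ▸ (hβ (f 0)).1
    exact_mod_cast this
  have hF : ∀ i (hi : i ≤ m), f ⟨min i m, by omega⟩ = f ⟨i, by omega⟩ := fun i hi => by
    congr 1; ext; simp [hi]
  have hsplit : ∀ j : Fin m, ∃ S : Finset V, f j.castSucc ∈ S ∧ f j.succ ∉ S ∧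
      ∀ e', ((ends e').1 ∈ S ↔ (ends e').2 ∉ S) → e' = e j := by
    intro j
    obtain ⟨S, hS⟩ := hconn j
    have hcr := (hS (e j)).2 rfl
    by_cases h1 : f j.castSucc ∈ S
    · refine ⟨S, h1, ?_, fun e' => (hS e').1⟩
      rcases hends j with h | h <;> rw [h] at hcr <;> simp_all
    · refine ⟨Sᶜ, mem_compl.2 h1, ?_, fun e' he' => (hS e').1 ?_⟩
      · rcases hends j with h | h <;> rw [h] at hcr <;> simp_all
      · simp only [mem_compl] at he'; tauto
  refine ⟨hβ, hm, ?_, ?_, ?_, ?_, ?_, ?_, ?_⟩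
  · intro i hi j hj hij
    rw [hF i hi, hF j hj] at hij
    exact Fin.mk.inj_iff.1 (hf hij)
  · intro i hi
    rw [hF i hi.le, hF (i + 1) hi]
    obtain ⟨S, h1, h2, h3⟩ := hsplit ⟨i, hi⟩
    have hne : f ⟨i, by omega⟩ ≠ f ⟨i + 1, by omega⟩ := fun h => by have := Fin.mk.inj_iff.1 (hf h); omega
    simp only [LabGraph.mfMatrix, if_neg hne, LabGraph.edgeMult]
    rw [show (univ.filter fun x : E => ends x = (f ⟨i, by omega⟩, f ⟨i + 1, by omega⟩) ∨
        ends x = (f ⟨i + 1, by omega⟩, f ⟨i, by omega⟩)) = {e ⟨i, hi⟩} from ?_]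
    · simp
    ext x
    simp only [mem_filter, mem_univ, true_and, mem_singleton]
    refine ⟨fun hx => h3 x ?_, fun hx => hx ▸ hends ⟨i, hi⟩⟩
    change f ⟨i, by omega⟩ ∈ S at h1
    change f ⟨i + 1, by omega⟩ ∉ S at h2
    rcases hx with hx | hx <;> simp [hx, h1, h2]
  · exact fun i _ => hβm _
  · exact fun i _ => hα _
  · intro x hx
    obtain ⟨j, -, rfl⟩ := mem_image.1 hx
    rcases hends j with h | h <;> simp [h, hβm]
  · intro v w
    constructor
    · intro h
      have h' : Relation.EqvGen (DualGr.CtrRel ends (univ.image e)) v w := Quotient.exact (s := DualGr.ctrSetoid ends _) h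
      clear h
      induction h' with
      | rel x y hxy =>
        obtain ⟨e', he', hxy⟩ := hxy
        obtain ⟨j, -, rfl⟩ := mem_image.1 he'
        right
        rcases hends j with h | h <;> rw [hxy, Prod.mk.injEq] at h <;> obtain ⟨rfl, rfl⟩ := h
        · exact ⟨⟨j, j.2.le, (hF j j.2.le).symm⟩, j + 1, j.2, (hF (j + 1) j.2).symm⟩
        · exact ⟨⟨j + 1, j.2, (hF (j + 1) j.2).symm⟩, j, j.2.le, (hF j j.2.le).symm⟩
      | refl => exact Or.inl rfl
      | symm _ _ _ ih =>
        rcases ih with rfl | ⟨a, b⟩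
        · exact Or.inl rfl
        · exact Or.inr ⟨b, a⟩
      | trans _ _ _ _ _ ih₁ ih₂ =>
        rcases ih₁ with rfl | ⟨a, b⟩
        · exact ih₂
        rcases ih₂ with rfl | ⟨c, d⟩
        · exact Or.inr ⟨a, b⟩
        · exact Or.inr ⟨a, d⟩
    · rintro (rfl | ⟨⟨i, hi, rfl⟩, j, hj, rfl⟩)
      · rfl
      have key : ∀ k (hk : k ≤ m), DualGr.ctrMk ends (univ.image e) (f ⟨k, by omega⟩) =
          DualGr.ctrMk ends (univ.image e) (f ⟨0, by omega⟩) := by
        intro k
        induction k with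
        | zero => intro; rfl
        | succ k ih =>
          intro hk
          rw [← ih (by omega)]
          have := DualGr.ctrMk_fst_eq_ctrMk_snd ends (univ.image e) (mem_image_of_mem e (mem_univ ⟨k, hk⟩))
          rcases hends ⟨k, hk⟩ with h | h <;> rw [h] at this
          · exact this.symm
          · exact this
      rw [hF i hi, hF j hj, key i hi, key j hj]
  · obtain ⟨A, h1, h2, h3⟩ := hsplit ⟨0, hm⟩
    refine ⟨A, by rw [hF 0 (by omega)]; exact h1, ?_, ?_⟩
    · intro i hi1 hi
      rw [hF i hi]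
      induction i with
      | zero => omega
      | succ k ih =>
        rcases Nat.eq_zero_or_pos k with rfl | hk
        · exact h2
        intro hmem
        have hne : e ⟨k, hi⟩ ≠ e ⟨0, hm⟩ := fun h => by have := Fin.mk.inj_iff.1 (he h); omega
        refine hne (h3 _ ?_)
        have hk' := ih hk (by omega)
        rcases hends ⟨k, hi⟩ with h | h <;> simp [h] <;> simp_all
    · intro a b ha hb hne
      have hab : a ≠ b := fun h => hb (h ▸ ha)
      simp only [LabGraph.mfMatrix, if_neg hab, LabGraph.edgeMult, ne_eq, Nat.cast_eq_zero, card_eq_zero,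
        ← nonempty_iff_ne_empty] at hne
      obtain ⟨x, hx⟩ := hne
      simp only [mem_filter, mem_univ, true_and] at hx
      obtain rfl := h3 x (by rcases hx with hx | hx <;> simp [hx, ha, hb])
      rw [hF 0 (by omega), hF 1 hm]
      change f ⟨0, by omega⟩ ∈ A at h1
      change f ⟨1, by omega⟩ ∉ A at h2
      rcases hends ⟨0, hm⟩ with h | h <;> rcases hx with hx | hx <;> rw [h, Prod.mk.injEq] at hx <;>
        obtain ⟨rfl, rfl⟩ := hx <;> first | exact ⟨rfl, rfl⟩ | exact absurd ha h2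

end Groth.Agent.GraphLib
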