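import Groth.Prelude.Def_W4c4cptpiccptjacBI
import Mathlib.Tactic

/-! Cuts, twists and the Basic Inequality on finite multigraphs. -/

universe u

namespace Groth.Agent.GraphLib

open Finset

variable {V E : Type u} [Fintype V] [Fintype E] [DecidableEq V] [DecidableEq E]
  (ends : E → V × V) (w : V → ℕ)

/-- indicator of a crossing edge -/
def chi (Y : Finset V) (e : E) : ℤ :=
  if (((ends e).1 ∈ Y ∧ (ends e).2 ∉ Y) ∨ ((ends e).1 ∉ Y ∧ (ends e).2 ∈ Y)) then 1 else 0

lemma cut_eq (Y : Finset V) : (LabGraph.cut ends Y : ℤ) = ∑ e, chi ends Y e := by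
  rw [LabGraph.cut, card_filter, Nat.cast_sum]
  exact sum_congr rfl fun e _ => by simp [chi]

lemma twist_sum (φ : V → ℤ) (Y : Finset V) :
    ∑ v ∈ Y, LabGraph.twist ends φ v =
      ∑ e, ((if (ends e).1 ∈ Y then φ (ends e).2 - φ (ends e).1 else 0) +
        (if (ends e).2 ∈ Y then φ (ends e).1 - φ (ends e).2 else 0)) := by
  simp only [LabGraph.twist]
  rw [sum_comm]
  refine sum_congr rfl fun e _ => ?_
  rw [sum_add_distrib, sum_ite_eq, sum_ite_eq]

lemma twist_total (φ : V → ℤ) : ∑ v, LabGraph.twist ends φ v = 0 := by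
  rw [twist_sum]
  exact sum_eq_zero fun e _ => by simp

lemma twist_add (φ ψ : V → ℤ) (v : V) :
    LabGraph.twist ends (fun u => φ u + ψ u) v = LabGraph.twist ends φ v + LabGraph.twist ends ψ v := by
  simp only [LabGraph.twist, ← sum_add_distrib]
  exact sum_congr rfl fun e _ => by split_ifs <;> ring

lemma twist_sum_fun {ι : Type*} (s : Finset ι) (φ : ι → V → ℤ) (v : V) :
    LabGraph.twist ends (fun u => ∑ i ∈ s, φ i u) v = ∑ i ∈ s, LabGraph.twist ends (φ i) v := by
  simp only [LabGraph.twist]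
  rw [sum_comm (s := s)]
  refine sum_congr rfl fun e _ => ?_
  split_ifs <;> simp [sum_add_distrib, sum_sub_distrib]

/-- deviation from the balanced multidegree -/
def dev (d : V → ℤ) (Y : Finset V) : ℤ :=
  LabGraph.canDeg ends w univ * (∑ v ∈ Y, d v) - (∑ v : V, d v) * LabGraph.canDeg ends w Y

lemma dev_union_inter (d : V → ℤ) (Y Z : Finset V) :
    dev ends w d (Y ∪ Z) + dev ends w d (Y ∩ Z) = dev ends w d Y + dev ends w d Z := by
  have h1 : ∀ g : V → ℤ, ∑ v ∈ Y ∪ Z, g v + ∑ v ∈ Y ∩ Z, g v = ∑ v ∈ Y, g v + ∑ v ∈ Z, g v := fun g =>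
    sum_union_inter
  simp only [dev, LabGraph.canDeg]
  linear_combination (∑ v : V, (2 * (w v : ℤ) - 2 + (LabGraph.endCount ends univ v : ℤ))) * h1 d -
    (∑ v : V, d v) * h1 (fun v => 2 * (w v : ℤ) - 2 + (LabGraph.endCount ends univ v : ℤ))

lemma dev_compl (d : V → ℤ) (Y : Finset V) : dev ends w d Yᶜ = -dev ends w d Y := by
  have h1 : ∀ g : V → ℤ, ∑ v ∈ Y, g v + ∑ v ∈ Yᶜ, g v = ∑ v, g v := fun g => sum_add_sum_compl Y g
  simp only [dev, LabGraph.canDeg]
  linear_combination (∑ v : V, (2 * (w v : ℤ) - 2 + (LabGraph.endCount ends univ v : ℤ))) * h1 d -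
    (∑ v : V, d v) * h1 (fun v => 2 * (w v : ℤ) - 2 + (LabGraph.endCount ends univ v : ℤ))

lemma cut_compl (Y : Finset V) : (LabGraph.cut ends Yᶜ : ℤ) = LabGraph.cut ends Y := by
  rw [cut_eq, cut_eq]
  refine sum_congr rfl fun e _ => ?_
  simp only [chi, mem_compl]
  by_cases h1 : (ends e).1 ∈ Y <;> by_cases h2 : (ends e).2 ∈ Y <;> simp [h1, h2]

lemma dev_twist (d φ : V → ℤ) (Y : Finset V) :
    dev ends w (fun v => d v + LabGraph.twist ends φ v) Y =
      dev ends w d Y + LabGraph.canDeg ends w univ * ∑ v ∈ Y, LabGraph.twist ends φ v := by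
  simp only [dev, sum_add_distrib, twist_total, add_zero]
  ring

lemma satisfiesBI_of_upper {d : V → ℤ}
    (h : ∀ Y, 2 * dev ends w d Y ≤ (LabGraph.cut ends Y : ℤ) * LabGraph.canDeg ends w univ) :
    LabGraph.SatisfiesBI ends w d := by
  intro Y
  change 2 * |dev ends w d Y| ≤ _
  have h1 := h Y
  have h2 := h Yᶜ
  rw [dev_compl, cut_compl] at h2
  rcases abs_cases (dev ends w d Y) with ⟨e, -⟩ | ⟨e, -⟩ <;> rw [e] <;> linarith

lemma canDeg_univ : LabGraph.canDeg ends w univ = 2 * LabGraph.genus ends w - 2 := by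
  have h : ∑ v, (LabGraph.endCount ends univ v : ℤ) = 2 * Fintype.card E := by
    simp only [LabGraph.endCount, Nat.cast_sum, Nat.cast_add]
    rw [sum_comm]
    simp [sum_add_distrib]
    ring
  simp only [LabGraph.canDeg, LabGraph.genus, sum_add_distrib, sum_sub_distrib, ← mul_sum, h, sum_const,
    card_univ, nsmul_eq_mul]
  ring

/-- twisting by an upper extreme set -/
theorem satisfiesBI_add_indicator (hK : 0 ≤ LabGraph.canDeg ends w univ) {d : V → ℤ}
    (hBI : LabGraph.SatisfiesBI ends w d) (Z : Finset V)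
    (hZ : 2 * dev ends w d Z = (LabGraph.cut ends Z : ℤ) * LabGraph.canDeg ends w univ) :
    LabGraph.SatisfiesBI ends w (fun v => d v + LabGraph.twist ends (fun u => if u ∈ Z then 1 else 0) v) := by
  refine satisfiesBI_of_upper ends w fun Y => ?_
  rw [dev_twist]
  set K := LabGraph.canDeg ends w univ
  have hu : ∀ X, 2 * dev ends w d X ≤ (LabGraph.cut ends X : ℤ) * K := fun X =>
    le_trans (mul_le_mul_of_nonneg_left (le_abs_self (dev ends w d X)) (by norm_num)) (hBI X)
  have key : (LabGraph.cut ends (Y ∪ Z) : ℤ) + LabGraph.cut ends (Y ∩ Z) +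
      2 * ∑ v ∈ Y, LabGraph.twist ends (fun u => if u ∈ Z then (1 : ℤ) else 0) v ≤
      LabGraph.cut ends Y + LabGraph.cut ends Z := by
    simp only [cut_eq, twist_sum, mul_sum, ← sum_add_distrib]
    refine sum_le_sum fun e _ => ?_
    simp only [chi, mem_union, mem_inter]
    by_cases h1 : (ends e).1 ∈ Y <;> by_cases h2 : (ends e).2 ∈ Y <;> by_cases h3 : (ends e).1 ∈ Z <;>
      by_cases h4 : (ends e).2 ∈ Z <;> simp [h1, h2, h3, h4]
  have := mul_le_mul_of_nonneg_right key hK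
  have := hu (Y ∪ Z)
  have := hu (Y ∩ Z)
  have := dev_union_inter ends w d Y Z
  linarith

/-- squared gradient -/
def energy (φ : V → ℤ) : ℤ := ∑ e, (φ (ends e).1 - φ (ends e).2) ^ 2

lemma exists_bound (hG : LabGraph.Connected ends) (v₀ v : V) :
    ∃ n : ℕ, ∀ φ : V → ℤ, ∀ T : ℤ, (∀ e, |φ (ends e).1 - φ (ends e).2| ≤ T) → |φ v - φ v₀| ≤ n * T := by
  have h := hG.2 v v₀
  induction h using Relation.ReflTransGen.head_induction_on with
  | refl => exact ⟨0, fun φ T _ => by simp⟩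
  | @head x y hxy _ ih =>
    obtain ⟨n, hn⟩ := ih
    obtain ⟨e, he⟩ := hxy
    refine ⟨n + 1, fun φ T hT => ?_⟩
    have h1 : |φ x - φ y| ≤ T := by
      rcases he with he | he
      · simpa [he] using hT e
      · simpa [he, abs_sub_comm] using hT e
    have h2 := abs_sub_le (φ x) (φ y) (φ v₀)
    have := hn φ T hT
    push_cast
    linarith

/-- every degree class contains a balanced representative -/
theorem exists_satisfiesBI (hG : LabGraph.Connected ends) (hK : 1 ≤ LabGraph.canDeg ends w univ) (d : V → ℤ) :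
    ∃ φ : V → ℤ, LabGraph.SatisfiesBI ends w (fun v => d v + LabGraph.twist ends φ v) := by
  classical
  set K := LabGraph.canDeg ends w univ with hKdef
  obtain ⟨v₀⟩ := hG.1
  let r : V → ℤ := fun v => dev ends w d {v}
  have hr : ∀ Y, dev ends w d Y = ∑ v ∈ Y, r v := fun Y => by
    simp only [r, dev, LabGraph.canDeg, sum_singleton, sum_sub_distrib, mul_sum]
  have hr0 : ∑ v, r v = 0 := by rw [← hr]; simp [dev]; ring
  choose n hn using fun v => exists_bound ends hG v₀ v
  let Q : (V → ℤ) → ℤ := fun φ => K * energy ends φ - 2 * ∑ v, r v * φ v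
  obtain ⟨b, hb⟩ : ∃ b : ℤ, ∀ φ, b ≤ Q φ := by
    refine ⟨-(∑ v, |r v| * n v) ^ 2, fun φ => ?_⟩
    obtain ⟨T, hT, hT2⟩ : ∃ T : ℤ, (∀ e, |φ (ends e).1 - φ (ends e).2| ≤ T) ∧ T ^ 2 ≤ energy ends φ := by
      rcases isEmpty_or_nonempty E with hE | hE
      · exact ⟨0, fun e => isEmptyElim e, by simp [energy]⟩
      · obtain ⟨e₀, -, he₀⟩ :=
          exists_max_image univ (fun e => |φ (ends e).1 - φ (ends e).2|) univ_nonempty
        refine ⟨_, fun e => he₀ e (mem_univ e), ?_⟩
        rw [sq_abs]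
        exact single_le_sum (fun e _ => sq_nonneg (φ (ends e).1 - φ (ends e).2)) (mem_univ e₀)
    have h1 : ∑ v, r v * φ v ≤ (∑ v, |r v| * n v) * T := by
      calc ∑ v, r v * φ v = ∑ v, r v * (φ v - φ v₀) := by
            simp only [mul_sub, sum_sub_distrib, ← sum_mul, hr0, zero_mul, sub_zero]
        _ ≤ ∑ v, |r v| * ((n v : ℤ) * T) := by
            refine sum_le_sum fun v _ => (le_abs_self _).trans ?_
            rw [abs_mul]
            exact mul_le_mul_of_nonneg_left (hn v φ T hT) (abs_nonneg _)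
        _ = _ := by rw [sum_mul]; simp only [mul_assoc]
    have h2 : T ^ 2 ≤ K * energy ends φ :=
      hT2.trans (le_mul_of_one_le_left ((sq_nonneg T).trans hT2) hK)
    simp only [Q]
    nlinarith [sq_nonneg (T - ∑ v, |r v| * n v)]
  obtain ⟨q, ⟨φ, rfl⟩, hmin⟩ := Int.exists_least_of_bdd (P := fun q => ∃ φ, Q φ = q)
    ⟨b, fun q ⟨φ, hφ⟩ => hφ ▸ hb φ⟩ ⟨_, 0, rfl⟩
  refine ⟨φ, satisfiesBI_of_upper ends w fun Y => ?_⟩
  rw [dev_twist, hr]
  have h := hmin _ ⟨fun u => φ u + if u ∈ Y then 1 else 0, rfl⟩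
  have hE : energy ends (fun u => φ u + if u ∈ Y then 1 else 0) =
      energy ends φ - 2 * ∑ v ∈ Y, LabGraph.twist ends φ v + LabGraph.cut ends Y := by
    simp only [energy, twist_sum, cut_eq, mul_sum, ← sum_add_distrib, ← sum_sub_distrib]
    refine sum_congr rfl fun e _ => ?_
    simp only [chi]
    by_cases h1 : (ends e).1 ∈ Y <;> by_cases h2 : (ends e).2 ∈ Y <;> simp [h1, h2] <;> ring
  have hlin : ∑ v, r v * (φ v + if v ∈ Y then 1 else 0) = ∑ v, r v * φ v + ∑ v ∈ Y, r v := by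
    simp [mul_add, sum_add_distrib, mul_ite, sum_ite_mem]
  simp only [Q, hE, hlin] at h
  linarith

end Groth.Agent.GraphLib
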