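import Mathlib.LinearAlgebra.FreeModule.Finite.CardQuotient
import Mathlib.LinearAlgebra.Matrix.ToLinearEquiv
import Mathlib.GroupTheory.Index
import Mathlib.Algebra.GCDMonoid.Finset
import Mathlib.RingTheory.PrincipalIdealDomain
import Mathlib.Tactic

/-! `#(ker β / im N)` through a cofactor of `N`. -/

universe u

namespace Groth.Agent.GraphLib

open Finset

lemma exists_gcd_eq_sum {ι : Type*} [DecidableEq ι] (s : Finset ι) (f : ι → ℤ) :
    ∃ u : ι → ℤ, s.gcd f = ∑ i ∈ s, u i * f i := by
  induction s using Finset.induction_on with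
  | empty => exact ⟨0, by simp⟩
  | @insert a s ha ih =>
    obtain ⟨u, hu⟩ := ih
    obtain ⟨x, y, hxy⟩ := exists_gcd_eq_mul_add_mul (f a) (s.gcd f)
    refine ⟨fun i => if i = a then x else y * u i, ?_⟩
    simp only [gcd_insert, hxy, sum_insert ha, if_true]
    rw [hu]
    have : ∀ i ∈ s, (if i = a then x else y * u i) * f i = y * (u i * f i) := fun i hi => by
      rw [if_neg (fun h : i = a => ha (h ▸ hi))]; ring
    rw [sum_congr rfl this, ← mul_sum]
    ring

variable {V : Type u} [Fintype V] [DecidableEq V]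

/-- `N` with row and column `r` replaced by those of the identity -/
def starMat (N : Matrix V V ℤ) (r : V) : Matrix V V ℤ :=
  Matrix.of fun i j => if i = r ∨ j = r then (if i = j then 1 else 0) else N i j

lemma starMat_mulVec_self (N : Matrix V V ℤ) (r : V) (x : V → ℤ) : (starMat N r).mulVec x r = x r := by
  simp [starMat, Matrix.mulVec, dotProduct]

lemma starMat_mulVec_ne (N : Matrix V V ℤ) (r : V) (x : V → ℤ) {i : V} (hi : i ≠ r) :
    (starMat N r).mulVec x i = N.mulVec (Function.update x r 0) i := by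
  simp only [starMat, Matrix.mulVec, dotProduct, Matrix.of_apply, hi, false_or]
  refine sum_congr rfl fun j _ => ?_
  by_cases hj : j = r
  · subst hj; simp [hi]
  · simp [hj]

lemma index_range_mulVec {A : Matrix V V ℤ} (hA : A.det ≠ 0) :
    (LinearMap.range A.mulVecLin).toAddSubgroup.index = A.det.natAbs := by
  have hinj : Function.Injective A.mulVecLin := by
    rw [← LinearMap.ker_eq_bot, LinearMap.ker_eq_bot']
    intro v hv
    by_contra hne
    exact hA (Matrix.exists_mulVec_eq_zero_iff.1 ⟨v, hne, hv⟩)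
  have h := Submodule.natAbs_det_equiv (LinearMap.range A.mulVecLin) (LinearEquiv.ofInjective A.mulVecLin hinj)
  rw [AddSubgroup.index]
  refine h.symm.trans ?_
  congr 1
  rw [← LinearMap.det_toLin']
  congr 1

variable (N : Matrix V V ℤ) (β β' : V → ℤ) (r : V) (g n : ℕ)

theorem card_quot_mul_sq (hg : 0 < g) (hn : 0 < n) (hβ : ∀ v, β v = g * β' v) (hr : β' r = n)
    (hu : ∃ u : V → ℤ, ∑ v, u v * β' v = 1) (hNβ : N.mulVec β = 0) (hβN : ∀ j, ∑ i, β i * N i j = 0)
    (hdet : (starMat N r).det ≠ 0) :
    (LinearMap.range N.mulVecLin).toAddSubgroup.relIndex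
      (LinearMap.ker (Fintype.linearCombination ℤ β)).toAddSubgroup * n ^ 2 = (starMat N r).det.natAbs := by
  set I := (LinearMap.range N.mulVecLin).toAddSubgroup with hI
  set K := (LinearMap.ker (Fintype.linearCombination ℤ β)).toAddSubgroup with hK
  set H := (LinearMap.range (starMat N r).mulVecLin).toAddSubgroup with hH
  set P := AddSubgroup.zmultiples (Pi.single r 1 : V → ℤ) with hP
  have hg' : (g : ℤ) ≠ 0 := by exact_mod_cast hg.ne'
  have hn' : (n : ℤ) ≠ 0 := by exact_mod_cast hn.ne'
  have hNβ' : N.mulVec β' = 0 := by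
    have : (g : ℤ) • N.mulVec β' = 0 := by
      rw [← Matrix.mulVec_smul, show (g : ℤ) • β' = β from funext fun v => (hβ v).symm, hNβ]
    exact (smul_eq_zero.1 this).resolve_left hg'
  have hmemK : ∀ x : V → ℤ, x ∈ K ↔ ∑ v, β' v * x v = 0 := fun x => by
    rw [hK, Submodule.mem_toAddSubgroup, LinearMap.mem_ker, Fintype.linearCombination_apply]
    simp only [smul_eq_mul, hβ]
    rw [show ∑ v, x v * ((g : ℤ) * β' v) = (g : ℤ) * ∑ v, β' v * x v by
      rw [mul_sum]; exact sum_congr rfl fun v _ => by ring]
    simp [hg.ne']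
  have hIK : I ≤ K := by
    rintro _ ⟨x, rfl⟩
    rw [hmemK]
    have : (g : ℤ) * ∑ v, β' v * (N.mulVec x) v = 0 := by
      rw [mul_sum]
      simp only [← mul_assoc, ← hβ, Matrix.mulVec, dotProduct, mul_sum]
      rw [sum_comm]
      exact sum_eq_zero fun j _ => by rw [← sum_mul, hβN, zero_mul]
    exact (mul_eq_zero.1 this).resolve_left hg'
  have hmemP : ∀ x : V → ℤ, x ∈ P ↔ ∀ v, v ≠ r → x v = 0 := fun x => by
    rw [hP, AddSubgroup.mem_zmultiples_iff]
    constructor
    · rintro ⟨k, rfl⟩ v hv; simp [hv]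
    · intro h
      refine ⟨x r, funext fun v => ?_⟩
      by_cases hv : v = r
      · subst hv; simp
      · simp [hv, h v hv]
  have hPH : P ≤ H := by
    intro x hx
    rw [hmemP] at hx
    refine ⟨x, funext fun v => ?_⟩
    change (starMat N r).mulVec x v = x v
    by_cases hv : v = r
    · subst hv; exact starMat_mulVec_self _ _ _
    · rw [starMat_mulVec_ne _ _ _ hv, show Function.update x r 0 = 0 from funext fun w => by
        by_cases hw : w = r
        · subst hw; simp
        · simp [Function.update_of_ne hw, hx w hw], Matrix.mulVec_zero, hx v hv]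
      rfl
  have hHIP : H ≤ I ⊔ P := by
    rintro _ ⟨x, rfl⟩
    rw [show ((starMat N r).mulVecLin) x = N.mulVec (Function.update x r 0) +
      ((starMat N r).mulVec x - N.mulVec (Function.update x r 0)) by simp]
    refine AddSubgroup.add_mem_sup ⟨_, rfl⟩ ((hmemP _).2 fun v hv => ?_)
    rw [Pi.sub_apply, starMat_mulVec_ne _ _ _ hv, sub_self]
  -- first layer
  let θ : (V → ℤ) →+ ZMod n := (Int.castAddHom (ZMod n)).comp (Pi.evalAddMonoidHom (fun _ : V => ℤ) r)
  have hθ : H.comap N.mulVecLin.toAddMonoidHom = θ.ker := by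
    ext x
    rw [AddSubgroup.mem_comap, AddMonoidHom.mem_ker]
    change N.mulVec x ∈ H ↔ ((x r : ℤ) : ZMod n) = 0
    rw [ZMod.intCast_zmod_eq_zero_iff_dvd]
    constructor
    · rintro ⟨y, hy⟩
      change (starMat N r).mulVec y = N.mulVec x at hy
      set z := x - Function.update y r 0 with hz
      have hNz : N.mulVec z = 0 := by
        have hoff : ∀ v, v ≠ r → N.mulVec z v = 0 := fun v hv => by
          rw [hz, Matrix.mulVec_sub, Pi.sub_apply, ← starMat_mulVec_ne N r y hv, hy, sub_self]
        have hk := (hmemK _).1 (hIK ⟨z, rfl⟩)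
        rw [← add_sum_erase _ _ (mem_univ r), sum_eq_zero (fun v hv => by
          rw [show (N.mulVecLin z) v = 0 from hoff v (mem_erase.1 hv).1, mul_zero]), add_zero, hr] at hk
        funext v
        rcases eq_or_ne v r with rfl | hv
        · exact (mul_eq_zero.1 hk).resolve_left hn'
        · exact hoff v hv
      set w := (n : ℤ) • z - z r • β' with hw
      have hwr : w r = 0 := by simp [hw, hr]; ring
      have hw0 : w = 0 := by
        by_contra hne
        refine hdet (Matrix.exists_mulVec_eq_zero_iff.1 ⟨w, hne, funext fun v => ?_⟩)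
        rcases eq_or_ne v r with rfl | hv
        · rw [starMat_mulVec_self, hwr]; rfl
        · rw [starMat_mulVec_ne _ _ _ hv, ← hwr, Function.update_eq_self, hw, Matrix.mulVec_sub,
            Matrix.mulVec_smul, Matrix.mulVec_smul, hNz, hNβ']
          simp
      obtain ⟨u, hu⟩ := hu
      have hzr : z r = x r := by simp [hz]
      refine ⟨∑ v, u v * z v, ?_⟩
      calc x r = z r * ∑ v, u v * β' v := by rw [hu, mul_one, hzr]
        _ = (n : ℤ) * ∑ v, u v * z v := by
          rw [mul_sum, mul_sum]
          refine sum_congr rfl fun v _ => ?_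
          have := congrFun hw0 v
          simp only [hw, Pi.sub_apply, Pi.smul_apply, smul_eq_mul, Pi.zero_apply, sub_eq_zero] at this
          linear_combination -u v * this
    · rintro ⟨c, hc⟩
      have hx' : (x - c • β') r = 0 := by simp [hc, hr]; ring
      have : N.mulVec x = N.mulVec (x - c • β') := by
        rw [Matrix.mulVec_sub, Matrix.mulVec_smul, hNβ', smul_zero, sub_zero]
      rw [this, show N.mulVec (x - c • β') = (starMat N r).mulVec (x - c • β') +
        (N.mulVec (x - c • β') - (starMat N r).mulVec (x - c • β')) by abel]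
      refine H.add_mem ⟨_, rfl⟩ (hPH ((hmemP _).2 fun v hv => ?_))
      have e : Function.update (x - c • β') r 0 = x - c • β' := Function.update_eq_self_iff.2 hx'.symm
      rw [Pi.sub_apply, starMat_mulVec_ne _ _ _ hv, e, sub_self]
  have hIrange : I = N.mulVecLin.toAddMonoidHom.range := by ext; rfl
  have h1 : H.relIndex (I ⊔ P) = n := by
    have hθs : Function.Surjective θ := fun a => by
      obtain ⟨k, rfl⟩ := ZMod.intCast_surjective a
      exact ⟨fun _ => k, rfl⟩
    have e : I ⊔ H = I ⊔ P := le_antisymm (sup_le le_sup_left hHIP) (sup_le_sup_left hPH I)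
    rw [← e, AddSubgroup.relIndex_sup_right, hIrange, ← AddSubgroup.index_comap, hθ, AddSubgroup.index_ker,
      AddMonoidHom.range_eq_top.2 hθs, AddSubgroup.card_top, Nat.card_zmod]
  -- second layer
  have h2 : (I ⊔ P).relIndex (K ⊔ P) = I.relIndex K := by
    have e : K ⊔ P = K ⊔ (I ⊔ P) := by rw [← sup_assoc, sup_eq_left.2 hIK]
    rw [e, AddSubgroup.relIndex_sup_right, ← AddSubgroup.inf_relIndex_right]
    congr 1
    refine le_antisymm ?_ (le_inf le_sup_left hIK)
    rintro x ⟨hx, hxK⟩
    obtain ⟨i, hi, q, hq, rfl⟩ := AddSubgroup.mem_sup.1 hx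
    have hqK : q ∈ K := by simpa using K.sub_mem hxK (hIK hi)
    have hqr : β' r * q r = 0 := by
      rw [← (hmemK q).1 hqK, ← add_sum_erase _ _ (mem_univ r), sum_eq_zero (fun v hv => by
        rw [(hmemP q).1 hq v (mem_erase.1 hv).1, mul_zero]), add_zero]
    have : q = 0 := funext fun v => by
      rcases eq_or_ne v r with rfl | hv
      · exact (mul_eq_zero.1 hqr).resolve_left (hr ▸ hn')
      · exact (hmemP q).1 hq v hv
    simpa [this] using hi
  -- third layer
  let ψ : (V → ℤ) →+ ZMod n :=
    (Int.castAddHom (ZMod n)).comp (Fintype.linearCombination ℤ β').toAddMonoidHom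
  have hψ : ψ.ker = K ⊔ P := by
    ext x
    rw [AddMonoidHom.mem_ker]
    change ((Fintype.linearCombination ℤ β' x : ℤ) : ZMod n) = 0 ↔ _
    rw [ZMod.intCast_zmod_eq_zero_iff_dvd, Fintype.linearCombination_apply]
    simp only [smul_eq_mul]
    constructor
    · rintro ⟨c, hc⟩
      have : x - c • Pi.single r 1 ∈ K := by
        rw [hmemK]
        simp only [Pi.sub_apply, mul_sub, sum_sub_distrib]
        simp only [Pi.smul_apply, Pi.single_apply, smul_eq_mul, mul_ite, mul_one, mul_zero, sum_ite_eq', mem_univ,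
          if_true, hr]
        rw [sum_congr rfl fun v _ => mul_comm (β' v) (x v), hc]
        ring
      simpa using AddSubgroup.add_mem_sup this (AddSubgroup.zsmul_mem P (AddSubgroup.mem_zmultiples _) c)
    · intro hx
      obtain ⟨k, hk, q, hq, rfl⟩ := AddSubgroup.mem_sup.1 hx
      refine ⟨q r, ?_⟩
      have hk' := (hmemK k).1 hk
      rw [sum_congr rfl fun v _ => mul_comm ((k + q) v) (β' v)]
      simp only [Pi.add_apply, mul_add, sum_add_distrib, hk', zero_add]
      rw [← add_sum_erase _ _ (mem_univ r), sum_eq_zero (fun v hv => by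
        rw [(hmemP q).1 hq v (mem_erase.1 hv).1, mul_zero]), add_zero, hr]
  have h3 : (K ⊔ P).index = n := by
    obtain ⟨u, hu⟩ := hu
    have hψs : Function.Surjective ψ := fun a => by
      obtain ⟨k, rfl⟩ := ZMod.intCast_surjective a
      refine ⟨k • u, ?_⟩
      change ((Fintype.linearCombination ℤ β' (k • u) : ℤ) : ZMod n) = (k : ZMod n)
      simp [Fintype.linearCombination_apply, mul_assoc, ← mul_sum, hu]
    rw [← hψ, AddSubgroup.index_ker, AddMonoidHom.range_eq_top.2 hψs, AddSubgroup.card_top, Nat.card_zmod]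
  rw [← index_range_mulVec hdet, ← hH, ← AddSubgroup.relIndex_mul_index hHIP,
    ← AddSubgroup.relIndex_mul_index (sup_le_sup_right hIK P), h1, h2, h3]
  ring

end Groth.Agent.GraphLib
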