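import Groth.Agent.GraphLib.Tree
import Groth.Agent.GraphLib.Index

/-! Component group of a graph with multiplicity function and weighted spanning trees. -/

universe u

namespace Groth.Agent.GraphLib

open Finset

variable {V E : Type u} [Fintype V] [Fintype E] [DecidableEq V] [DecidableEq E] {ends : E → V × V} {β : V → ℤ}

lemma edgeMult_comm (v w : V) : LabGraph.edgeMult ends v w = LabGraph.edgeMult ends w v := by
  unfold LabGraph.edgeMult
  congr 1
  ext e
  simp [or_comm]

lemma mfMatrix_symm (v w : V) : LabGraph.mfMatrix ends β v w = LabGraph.mfMatrix ends β w v := by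
  by_cases h : v = w
  · subst h; rfl
  · simp [LabGraph.mfMatrix, h, Ne.symm h, edgeMult_comm v w]

lemma mfMatrix_row (hβ : LabGraph.IsMultFn ends β) (v : V) :
    ∑ w, LabGraph.mfMatrix ends β v w * β w = 0 := by
  rw [← add_sum_erase _ _ (mem_univ v)]
  have e : ∀ w ∈ univ.erase v, LabGraph.mfMatrix ends β v w * β w = β w * (LabGraph.edgeMult ends v w : ℤ) := by
    intro w hw
    simp [LabGraph.mfMatrix, Ne.symm (mem_erase.1 hw).1, mul_comm]
  rw [sum_congr rfl e, LabGraph.mfMatrix, if_pos rfl, Int.neg_ediv_of_dvd (hβ v).2, neg_mul,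
    Int.ediv_mul_cancel (hβ v).2, neg_add_cancel]

lemma mfMatrix_col (hβ : LabGraph.IsMultFn ends β) (w : V) :
    ∑ v, β v * LabGraph.mfMatrix ends β v w = 0 := by
  rw [← mfMatrix_row hβ w]
  exact sum_congr rfl fun v _ => by rw [mul_comm, mfMatrix_symm]

lemma sum_inc (e : E) : ∑ j, (inc ends e j : ℤ) = 0 := by simp [inc]

lemma lap_eq (hβ : LabGraph.IsMultFn ends β) (i j : V) :
    lap ends (fun e => β (ends e).1 * β (ends e).2) univ i j = β i * β j * -LabGraph.mfMatrix ends β i j := by
  have hoff : ∀ a b : V, a ≠ b → lap ends (fun e => β (ends e).1 * β (ends e).2) univ a b =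
      β a * β b * -LabGraph.mfMatrix ends β a b := by
    intro a b hab
    simp only [lap, LabGraph.mfMatrix, if_neg hab, LabGraph.edgeMult, card_filter, Nat.cast_sum, mul_neg, mul_sum,
      ← sum_neg_distrib]
    refine sum_congr rfl fun e _ => ?_
    rcases he : ends e with ⟨x, y⟩
    simp only [inc, he, Prod.mk.injEq]
    by_cases h1 : x = a <;> by_cases h2 : y = a <;> by_cases h3 : x = b <;> by_cases h4 : y = b <;>
      subst_vars <;> simp_all [mul_comm]
  by_cases h : i = j
  · subst h
    have h1 : ∑ j, lap ends (fun e => β (ends e).1 * β (ends e).2) univ i j = 0 := by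
      simp only [lap]
      rw [sum_comm]
      exact sum_eq_zero fun e _ => by rw [← mul_sum, sum_inc, mul_zero]
    have h2 : ∑ j, β i * β j * -LabGraph.mfMatrix ends β i j = 0 := by
      calc ∑ j, β i * β j * -LabGraph.mfMatrix ends β i j
          = -β i * ∑ j, LabGraph.mfMatrix ends β i j * β j := by
            rw [mul_sum]; exact sum_congr rfl fun j _ => by ring
        _ = 0 := by rw [mfMatrix_row hβ, mul_zero]
    rw [← add_sum_erase _ _ (mem_univ i)] at h1 h2
    rw [sum_congr rfl fun j hj => hoff i j (Ne.symm (mem_erase.1 hj).1)] at h1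
    linarith
  · exact hoff i j h

lemma prod_weights (β : V → ℤ) (T : Finset E) :
    ∏ e ∈ T, (β (ends e).1 * β (ends e).2) = ∏ v, β v ^ LabGraph.endCount ends T v := by
  simp only [LabGraph.endCount, ← prod_pow_eq_pow_sum, pow_add]
  rw [prod_comm]
  refine prod_congr rfl fun e _ => ?_
  rw [prod_mul_distrib]
  simp [pow_ite]

open Classical in
/-- the matrix-tree identity for the multiplicity matrix -/
lemma det_starMat (hβ : LabGraph.IsMultFn ends β) (r : V) :
    (∏ v ∈ univ.erase r, β v) ^ 2 * (starMat (-LabGraph.mfMatrix ends β) r).det =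
      ∑ T ∈ univ.powerset.filter (fun T : Finset E => LabGraph.IsSpanningTree ends T),
        ∏ v, β v ^ LabGraph.nbrCount ends T v := by
  have hfac : red ends (fun e => β (ends e).1 * β (ends e).2) univ {r} =
      Matrix.diagonal (fun v => if v = r then 1 else β v) * starMat (-LabGraph.mfMatrix ends β) r *
        Matrix.diagonal (fun v => if v = r then 1 else β v) := by
    ext i j
    rw [Matrix.mul_diagonal, Matrix.diagonal_mul]
    by_cases hi : i = r
    · subst hi
      by_cases hj : i = j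
      · subst hj; simp [red, starMat]
      · simp [red, starMat, hj]
    by_cases hj : j = r
    · subst hj; simp [red, starMat, hi]
    · simp only [red, starMat, Matrix.of_apply, mem_singleton, hi, hj, or_self, if_false, lap_eq hβ,
        Matrix.neg_apply]
      ring
  have hprod : ∏ v, (if v = r then (1 : ℤ) else β v) = ∏ v ∈ univ.erase r, β v := by
    rw [← mul_prod_erase _ _ (mem_univ r), if_pos rfl, one_mul]
    exact prod_congr rfl fun v hv => if_neg (mem_erase.1 hv).1
  have h := det_red ends (fun e => β (ends e).1 * β (ends e).2) (univ : Finset E) {r}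
  rw [hfac, Matrix.det_mul, Matrix.det_mul, Matrix.det_diagonal, hprod] at h
  calc (∏ v ∈ univ.erase r, β v) ^ 2 * (starMat (-LabGraph.mfMatrix ends β) r).det
      = (∏ v ∈ univ.erase r, β v) * (starMat (-LabGraph.mfMatrix ends β) r).det * ∏ v ∈ univ.erase r, β v := by ring
    _ = _ := h
    _ = _ := by
      refine sum_congr (filter_congr fun T _ => (isSpanningTree_iff T r).symm) fun T hT => ?_
      rw [prod_weights]
      refine prod_congr rfl fun v _ => ?_
      rw [nbrCount_eq_endCount ((isSpanningTree_iff T r).1 (mem_filter.1 hT).2).acyc]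

open Classical in
theorem card_compGrp (hβ : LabGraph.IsMultFn ends β) (hG : LabGraph.Connected ends) :
    (Nat.card (LabGraph.CompGrp ends β) : ℚ) =
      ((univ.gcd β : ℤ) : ℚ) ^ 2 *
        ∑ T ∈ univ.powerset.filter (fun T : Finset E => LabGraph.IsSpanningTree ends T),
          ∏ v : V, ((β v : ℚ) ^ ((LabGraph.nbrCount ends T v : ℤ) - 2)) := by
  obtain ⟨r⟩ := hG.1
  obtain ⟨T₀, hT₀⟩ := exists_isSpanningTree hG
  have hpos : ∀ v, 0 < β v := fun v => (hβ v).1
  set G := (univ.gcd β : ℤ) with hG'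
  have hGne : G ≠ 0 := fun h => (hpos r).ne' (gcd_eq_zero_iff.1 h r (mem_univ r))
  have hG0 : 0 < G := by
    have : 0 ≤ G := Int.nonneg_of_normalize_eq_self Finset.normalize_gcd
    omega
  obtain ⟨g, hg⟩ : ∃ g : ℕ, G = g := ⟨G.toNat, (Int.toNat_of_nonneg hG0.le).symm⟩
  have hdvd : ∀ v, G ∣ β v := fun v => gcd_dvd (mem_univ v)
  have hb' : ∀ v, β v = (g : ℤ) * (β v / G) := fun v => by rw [← hg, Int.mul_ediv_cancel' (hdvd v)]
  have hr0 : 0 < β r / G := Int.ediv_pos_of_pos_of_dvd (hpos r) hG0.le (hdvd r)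
  obtain ⟨n, hn⟩ : ∃ n : ℕ, β r / G = n := ⟨(β r / G).toNat, (Int.toNat_of_nonneg hr0.le).symm⟩
  have hu : ∃ u : V → ℤ, ∑ v, u v * (β v / G) = 1 := by
    obtain ⟨u, hu⟩ := exists_gcd_eq_sum univ β
    refine ⟨u, mul_left_cancel₀ hGne ?_⟩
    rw [mul_sum, mul_one]
    refine Eq.trans (sum_congr rfl fun v _ => ?_) hu.symm
    rw [← mul_assoc, mul_comm G, mul_assoc, Int.mul_ediv_cancel' (hdvd v)]
  have hsum := det_starMat hβ r
  set S := ∑ T ∈ univ.powerset.filter (fun T : Finset E => LabGraph.IsSpanningTree ends T),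
        ∏ v, β v ^ LabGraph.nbrCount ends T v with hS
  have hS0 : 0 < S :=
    sum_pos (fun T _ => prod_pos fun v _ => pow_pos (hpos v) _)
      ⟨T₀, mem_filter.2 ⟨mem_powerset.2 (subset_univ _), hT₀⟩⟩
  have hp0 : 0 < (∏ v ∈ univ.erase r, β v) ^ 2 := pow_pos (prod_pos fun v _ => hpos v) 2
  have hdet : 0 < (starMat (-LabGraph.mfMatrix ends β) r).det :=
    (mul_pos_iff_of_pos_left hp0).1 (hsum.symm ▸ hS0)
  have hidx := card_quot_mul_sq (-LabGraph.mfMatrix ends β) β (fun v => β v / G) r g n (by omega) (by omega)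
    hb' hn hu (funext fun v => by
      rw [Matrix.neg_mulVec, Pi.neg_apply]
      exact neg_eq_zero.2 (mfMatrix_row hβ v))
    (fun j => by simp [mfMatrix_col hβ j]) hdet.ne'
  have hcard : Nat.card (LabGraph.CompGrp ends β) =
      (LinearMap.range (-LabGraph.mfMatrix ends β).mulVecLin).toAddSubgroup.relIndex
        (LinearMap.ker (Fintype.linearCombination ℤ β)).toAddSubgroup := by
    have e : LinearMap.range (-LabGraph.mfMatrix ends β).mulVecLin =
        LinearMap.range (LabGraph.mfMatrix ends β).mulVecLin := by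
      rw [show (-LabGraph.mfMatrix ends β).mulVecLin = -(LabGraph.mfMatrix ends β).mulVecLin from
        LinearMap.ext fun x => Matrix.neg_mulVec x _, LinearMap.range_neg]
    rw [e]
    rfl
  have key : (Nat.card (LabGraph.CompGrp ends β) : ℤ) * (n : ℤ) ^ 2 = (starMat (-LabGraph.mfMatrix ends β) r).det := by
    rw [hcard, ← Int.natAbs_of_nonneg hdet.le]
    exact_mod_cast hidx
  have hall : (g : ℤ) * n * ∏ v ∈ univ.erase r, β v = ∏ v, β v := by
    rw [← mul_prod_erase _ _ (mem_univ r), ← hn, ← hb' r]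
  have hfin : (Nat.card (LabGraph.CompGrp ends β) : ℤ) * (∏ v, β v) ^ 2 = (g : ℤ) ^ 2 * S := by
    rw [← hsum, ← key, ← hall]; ring
  have hallne : (((∏ v, β v : ℤ)) : ℚ) ^ 2 ≠ 0 :=
    pow_ne_zero _ (Int.cast_ne_zero.2 (prod_ne_zero_iff.2 fun v _ => (hpos v).ne'))
  rw [← mul_left_inj' hallne, mul_assoc, sum_mul]
  have e : ∀ T : Finset E, (∏ v : V, ((β v : ℚ) ^ ((LabGraph.nbrCount ends T v : ℤ) - 2))) * ((∏ v, β v : ℤ) : ℚ) ^ 2 =
      ((∏ v, β v ^ LabGraph.nbrCount ends T v : ℤ) : ℚ) := by
    intro T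
    push_cast
    rw [← prod_pow, ← prod_mul_distrib]
    refine prod_congr rfl fun v _ => ?_
    have : (β v : ℚ) ≠ 0 := Int.cast_ne_zero.2 (hpos v).ne'
    rw [← zpow_natCast (β v : ℚ) 2, ← zpow_add₀ this, ← zpow_natCast]
    congr 1
    omega
  simp only [e, ← Int.cast_sum, hg]
  exact_mod_cast hfin

end Groth.Agent.GraphLib
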