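import Groth.Agent.GraphLib.Tree
import Mathlib.RingTheory.PrincipalIdealDomain

/-! Potentials, cycles and circuit-coprimality on finite multigraphs. -/

universe u

namespace Groth.Agent.GraphLib

open Finset

variable {V E : Type u} [Fintype V] [Fintype E] [DecidableEq V] [DecidableEq E] {ends : E → V × V}

/-- discrete gradient -/
def grad (ends : E → V × V) (g : V → ℤ) (e : E) : ℤ := g (ends e).2 - g (ends e).1

lemma sum_mul_grad (g : V → ℤ) (γ : E → ℤ) :
    ∑ e, γ e * grad ends g e = ∑ v, g v * LabGraph.boundary ends γ v := by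
  simp only [LabGraph.boundary, mul_sum, mul_sub, mul_ite, mul_zero, grad]
  rw [sum_comm]
  refine sum_congr rfl fun e _ => ?_
  simp [sum_sub_distrib]
  ring

omit [Fintype E] in
lemma conn_erase {C : Finset E} {e : E} (he : e ∈ C) (hev : ∀ v, Even (LabGraph.endCount ends C v)) :
    Relation.ReflTransGen (AdjT ends (C.erase e)) (ends e).1 (ends e).2 := by
  classical
  by_contra hb
  set X : Finset V := univ.filter fun v => Relation.ReflTransGen (AdjT ends (C.erase e)) (ends e).1 v with hX
  have h1 : (ends e).1 ∈ X := by simp [hX, Relation.ReflTransGen.refl]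
  have h2 : (ends e).2 ∉ X := by simpa [hX] using hb
  have hcl : ∀ e' ∈ C.erase e, ((ends e').1 ∈ X ↔ (ends e').2 ∈ X) := by
    intro e' he'
    simp only [hX, mem_filter, mem_univ, true_and]
    exact ⟨fun h => h.tail ⟨e', he', Or.inl rfl⟩, fun h => h.tail ⟨e', he', Or.inr rfl⟩⟩
  have := Finset.even_sum (s := X) _ fun v _ => hev v
  rw [sum_endCount, ← add_sum_erase _ _ he, if_pos h1, if_neg h2] at this
  have heven : Even (∑ x ∈ C.erase e, ((if (ends x).1 ∈ X then 1 else 0) + (if (ends x).2 ∈ X then 1 else 0))) :=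
    Finset.even_sum _ fun x hx => by
      by_cases hx1 : (ends x).1 ∈ X
      · simp [hx1, (hcl x hx).1 hx1]
      · simp [hx1, mt (hcl x hx).2 hx1]
  rw [Nat.even_add] at this
  simp [heven] at this

lemma exists_flow {F : Finset E} {a b : V} (h : Relation.ReflTransGen (AdjT ends F) a b) :
    ∃ γ : E → ℤ, (∀ e, e ∉ F → γ e = 0) ∧
      ∀ v, LabGraph.boundary ends γ v = (if v = b then 1 else 0) - (if v = a then 1 else 0) := by
  induction h with
  | refl => exact ⟨0, fun e _ => rfl, fun v => by simp [LabGraph.boundary]⟩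
  | @tail x y _ hxy ih =>
    obtain ⟨γ, hγ, hb⟩ := ih
    obtain ⟨e, he, hxy⟩ := hxy
    rcases hxy with hxy | hxy
    · refine ⟨γ + Pi.single e 1, fun e' he' => by
        simp [hγ e' he', show e' ≠ e from fun h => he' (h ▸ he)], fun v => ?_⟩
      have : LabGraph.boundary ends (γ + Pi.single e 1) v =
          LabGraph.boundary ends γ v + ((if y = v then 1 else 0) - (if x = v then 1 else 0)) := by
        simp only [LabGraph.boundary, ← sum_filter, sum_sub_distrib, Pi.add_apply, sum_add_distrib, sum_pi_single',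
          mem_filter, mem_univ, true_and, hxy]
        ring
      rw [this, hb]
      simp only [eq_comm (a := v)]
      ring
    · refine ⟨γ - Pi.single e 1, fun e' he' => by
        simp [hγ e' he', show e' ≠ e from fun h => he' (h ▸ he)], fun v => ?_⟩
      have : LabGraph.boundary ends (γ - Pi.single e 1) v =
          LabGraph.boundary ends γ v - ((if x = v then 1 else 0) - (if y = v then 1 else 0)) := by
        simp only [LabGraph.boundary, ← sum_filter, sum_sub_distrib, Pi.sub_apply, sum_pi_single',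
          mem_filter, mem_univ, true_and, hxy]
        ring
      rw [this, hb]
      simp only [eq_comm (a := v)]
      ring

open Classical in
/-- the far side of a tree edge -/
noncomputable def far (ends : E → V × V) (T : Finset E) (e : E) (v : V) : ℤ :=
  if Relation.ReflTransGen (AdjT ends (T.erase e)) (ends e).1 v then 0 else 1

lemma far_eq {T : Finset E} {e : E} {v v' : V} (h : Relation.ReflTransGen (AdjT ends (T.erase e)) v v') :
    far ends T e v = far ends T e v' := by
  unfold far
  congr 1
  exact propext ⟨fun h1 => h1.trans h, fun h1 => h1.trans (rtg_symm h)⟩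

lemma not_conn_of_good {T : Finset E} {r : V} (hT : Good ends T {r}) {e : E} (he : e ∈ T) :
    ¬ Relation.ReflTransGen (AdjT ends (T.erase e)) (ends e).1 (ends e).2 := by
  intro hconn
  have hspan : Spans ends (T.erase e) {r} := by
    intro v
    obtain ⟨s, hs, hp⟩ := hT.1 v
    refine ⟨s, hs, ?_⟩
    clear hs
    induction hp with
    | refl => exact .refl
    | @tail x y _ hxy ih =>
      refine ih.trans ?_
      obtain ⟨e', he', hxy⟩ := hxy
      by_cases hee : e' = e
      · subst hee
        rcases hxy with h | h <;> rw [h] at hconn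
        · exact hconn
        · exact rtg_symm hconn
      · exact .single ⟨e', mem_erase.2 ⟨hee, he'⟩, hxy⟩
  have h1 := hspan.card_le
  have h2 := hT.2
  rw [card_erase_of_mem he] at h1
  have : 0 < T.card := card_pos.2 ⟨e, he⟩
  omega

lemma grad_far {T : Finset E} {r : V} (hT : Good ends T {r}) {e : E} (he : e ∈ T) {e' : E} (he' : e' ∈ T) :
    grad ends (far ends T e) e' = if e' = e then 1 else 0 := by
  split_ifs with h
  · subst h
    simp [grad, far, not_conn_of_good hT he, Relation.ReflTransGen.refl]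
  · rw [grad, far_eq (.single (⟨e', mem_erase.2 ⟨h, he'⟩, Or.inr rfl⟩ :
      AdjT ends (T.erase e) (ends e').2 (ends e').1)), sub_self]

/-- potentials on a spanning tree -/
lemma exists_potential {T : Finset E} {r : V} (hT : Good ends T {r}) (c : E → ℤ) :
    ∃ g : V → ℤ, ∀ e ∈ T, grad ends g e = c e := by
  refine ⟨fun v => ∑ e ∈ T, c e * far ends T e v, fun e he => ?_⟩
  have : grad ends (fun v => ∑ e ∈ T, c e * far ends T e v) e = ∑ x ∈ T, c x * grad ends (far ends T x) e := by
    simp only [grad, mul_sub, sum_sub_distrib]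
  rw [this, sum_congr rfl fun x hx => by rw [grad_far hT hx he]]
  simp [he]

/-- forests extend to spanning trees -/
lemma Acyc.exists_tree {F : Finset E} (hF : Acyc ends F) {T : Finset E} {r : V} (hFT : F ⊆ T)
    (hT : Spans ends T {r}) : ∃ T', F ⊆ T' ∧ Good ends T' {r} := by
  induction hn : T.card using Nat.strong_induction_on generalizing T with
  | _ n ih =>
  subst hn
  by_cases ha : Acyc ends T
  · have h3 := hT.card_le
    have h4 := ha.card_lt r
    rw [card_singleton] at h3
    exact ⟨T, hFT, hT, by rw [card_singleton]; omega⟩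
  · simp only [Acyc] at ha
    push Not at ha
    obtain ⟨C, hCT, hne, hev⟩ := ha
    obtain ⟨e, heC, heF⟩ : ∃ e ∈ C, e ∉ F := by
      by_contra h
      push Not at h
      obtain ⟨v, hv⟩ := hF C h hne
      exact hv (hev v)
    exact ih _ (card_erase_lt_of_mem (hCT heC))
      (fun x hx => mem_erase.2 ⟨fun h => heF (by rw [← h]; exact hx), hFT hx⟩) (spans_erase hT hCT heC hev) rfl

lemma spans_univ (hG : LabGraph.Connected ends) (r : V) : Spans ends (univ : Finset E) {r} := fun w =>
  ⟨r, mem_singleton_self r, Relation.ReflTransGen.mono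
    (fun _ _ ⟨e, he⟩ => ⟨e, mem_univ e, he⟩) _ _ (hG.2 w r)⟩

/-- every edge vector is a gradient plus a multiple of the labels -/
theorem split_of_coprime {l : E → ℕ} (hl : ∀ e, 0 < l e) (hG : LabGraph.Connected ends)
    (hcop : LabGraph.IsCircuitCoprime ends l) (x : E → ℤ) :
    ∃ (g : V → ℤ) (y : E → ℤ), ∀ e, x e = grad ends g e + (l e : ℤ) * y e := by
  obtain ⟨r⟩ := hG.1
  let I : Ideal ℤ :=
    { carrier := {c | ∃ (g : V → ℤ) (y : E → ℤ), ∀ e, c * x e = grad ends g e + (l e : ℤ) * y e}
      add_mem' := fun {a b} ⟨g, y, h⟩ ⟨g', y', h'⟩ => ⟨g + g', y + y', fun e => by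
        simp only [grad, Pi.add_apply] at h h' ⊢; linear_combination h e + h' e⟩
      zero_mem' := ⟨0, 0, fun e => by simp [grad]⟩
      smul_mem' := fun c a ⟨g, y, h⟩ => ⟨c • g, c • y, fun e => by
        simp only [grad, Pi.smul_apply, smul_eq_mul] at h ⊢; linear_combination c * h e⟩ }
  have key : ∀ q : ℕ, q.Prime → ∃ M ∈ I, ¬ (q : ℤ) ∣ M := by
    intro q hq
    have hF : Acyc ends (univ.filter fun e => q ∣ l e) := by
      intro C hC hne
      by_contra hc
      push Not at hc
      obtain ⟨C', hC', hcirc⟩ := exists_circuit hne hc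
      have : q ∣ C'.gcd l := Finset.dvd_gcd fun e he => (mem_filter.1 (hC (hC' he))).2
      rw [hcop C' hcirc] at this
      exact hq.one_lt.ne' (Nat.dvd_one.1 this)
    obtain ⟨T, hFT, hT⟩ := hF.exists_tree (subset_univ _) (spans_univ hG r)
    set M : ℤ := ∏ e ∈ univ \ T, (l e : ℤ) with hM
    obtain ⟨h₀, hh₀⟩ := exists_potential hT x
    refine ⟨M, ⟨M • h₀, fun e => M * (x e - grad ends h₀ e) / (l e : ℤ), fun e => ?_⟩, ?_⟩
    · have hdvd : (l e : ℤ) ∣ M * (x e - grad ends h₀ e) := by
        by_cases he : e ∈ T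
        · rw [hh₀ e he, sub_self, mul_zero]; exact dvd_zero _
        · exact Dvd.dvd.mul_right (dvd_prod_of_mem (fun e => (l e : ℤ)) (mem_sdiff.2 ⟨mem_univ e, he⟩)) _
      rw [Int.mul_ediv_cancel' hdvd]; simp only [grad, Pi.smul_apply, smul_eq_mul]; ring
    · intro h
      obtain ⟨e, he, hqe⟩ := (Prime.dvd_finset_prod_iff (Nat.prime_iff_prime_int.1 hq) _).1 h
      exact (mem_sdiff.1 he).2 (hFT (mem_filter.2 ⟨mem_univ e, Int.natCast_dvd_natCast.1 hqe⟩))
  suffices (1 : ℤ) ∈ I by
    obtain ⟨g, y, h⟩ := this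
    exact ⟨g, y, fun e => by simpa using h e⟩
  rw [← Ideal.eq_top_iff_one]
  by_contra hne
  have hn : (Submodule.IsPrincipal.generator I).natAbs ≠ 1 := fun h =>
    hne (Ideal.eq_top_of_isUnit_mem I (Submodule.IsPrincipal.generator_mem I) (Int.isUnit_iff_natAbs_eq.2 h))
  obtain ⟨q, hq, hqn⟩ := Nat.exists_prime_and_dvd hn
  obtain ⟨M, hM, hMq⟩ := key q hq
  exact hMq ((Int.natCast_dvd.2 hqn).trans ((Submodule.IsPrincipal.mem_iff_generator_dvd I).1 hM))

end Groth.Agent.GraphLib
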