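import Groth.Prelude.Def_W4c2conddiscmodels
import Mathlib.LinearAlgebra.Matrix.ToLinearEquiv
import Mathlib.Data.Finset.Card
import Mathlib.Tactic

/-! Spanning trees of finite multigraphs and the matrix-tree theorem. -/

universe u

namespace Groth.Agent.GraphLib

variable {V E : Type u} [Fintype V] [Fintype E] [DecidableEq V] [DecidableEq E] (ends : E → V × V)

open Finset

/-- adjacency through an edge of `T` -/
def AdjT (T : Finset E) (v w : V) : Prop := ∃ e ∈ T, ends e = (v, w) ∨ ends e = (w, v)

/-- every vertex is joined to the root set by edges of `T` -/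
def Spans (T : Finset E) (S : Finset V) : Prop := ∀ v, ∃ s ∈ S, Relation.ReflTransGen (AdjT ends T) v s

/-- a spanning forest rooted at `S` -/
def Good (T : Finset E) (S : Finset V) : Prop := Spans ends T S ∧ T.card + S.card = Fintype.card V

/-- no nonempty subset has even degrees -/
def Acyc (T : Finset E) : Prop :=
  ∀ C ⊆ T, C.Nonempty → ∃ v, ¬ Even (LabGraph.endCount ends C v)

variable {ends}

lemma AdjT.symm {T : Finset E} {v w : V} (h : AdjT ends T v w) : AdjT ends T w v := by
  obtain ⟨e, he, h | h⟩ := h
  · exact ⟨e, he, Or.inr h⟩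
  · exact ⟨e, he, Or.inl h⟩

lemma rtg_symm {T : Finset E} {v w : V} (h : Relation.ReflTransGen (AdjT ends T) v w) :
    Relation.ReflTransGen (AdjT ends T) w v := by
  induction h with
  | refl => exact .refl
  | tail _ h2 ih => exact Relation.ReflTransGen.head h2.symm ih

lemma rtg_mono {T T' : Finset E} (h : T ⊆ T') {v w : V} (hv : Relation.ReflTransGen (AdjT ends T) v w) :
    Relation.ReflTransGen (AdjT ends T') v w :=
  Relation.ReflTransGen.mono (fun _ _ ⟨e, he, he'⟩ => ⟨e, h he, he'⟩) _ _ hv

lemma spans_insert {T : Finset E} {S : Finset V} {e : E} {a b : V}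
    (he : ends e = (a, b) ∨ ends e = (b, a)) (hb : b ∈ S) :
    Spans ends (insert e T) S ↔ Spans ends T (insert a S) := by
  constructor
  · intro h v
    obtain ⟨s, hs, hp⟩ := h v
    clear h
    induction hp using Relation.ReflTransGen.head_induction_on with
    | refl => exact ⟨s, mem_insert_of_mem hs, .refl⟩
    | @head x y hxy _ ih =>
      obtain ⟨e', he', hxy⟩ := hxy
      rcases mem_insert.1 he' with rfl | he''
      · refine ⟨x, ?_, .refl⟩
        rcases he with he | he <;> rcases hxy with hxy | hxy <;>
          (rw [he, Prod.mk.injEq] at hxy; obtain ⟨h1, h2⟩ := hxy; subst h1; subst h2;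
           simp [hb])
      · obtain ⟨t, ht, hp⟩ := ih
        exact ⟨t, ht, Relation.ReflTransGen.head ⟨e', he'', hxy⟩ hp⟩
  · intro h v
    obtain ⟨s, hs, hp⟩ := h v
    have hp' := rtg_mono (subset_insert e T) hp
    rcases mem_insert.1 hs with rfl | hs
    · exact ⟨b, hb, hp'.tail ⟨e, mem_insert_self _ _, he⟩⟩
    · exact ⟨s, hs, hp'⟩

lemma Spans.exists_crossing {T : Finset E} {S : Finset V} (h : Spans ends T S) {v : V} (hv : v ∉ S) :
    ∃ e ∈ T, ∃ a b, (ends e = (a, b) ∨ ends e = (b, a)) ∧ a ∉ S ∧ b ∈ S := by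
  obtain ⟨s, hs, hp⟩ := h v
  induction hp using Relation.ReflTransGen.head_induction_on with
  | refl => exact absurd hs hv
  | @head x y hxy _ ih =>
    by_cases hy : y ∈ S
    · obtain ⟨e, he, hxy⟩ := hxy
      exact ⟨e, he, x, y, hxy, hv, hy⟩
    · exact ih hy

lemma Spans.card_le {T : Finset E} {S : Finset V} (h : Spans ends T S) :
    Fintype.card V ≤ T.card + S.card := by
  induction hn : T.card using Nat.strong_induction_on generalizing T S with
  | _ n ih =>
  subst hn
  by_cases hS : S = univ
  · simp [hS]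
  obtain ⟨v, hv⟩ : ∃ v, v ∉ S := by
    by_contra hc; push Not at hc; exact hS (eq_univ_iff_forall.2 hc)
  obtain ⟨e, he, a, b, hab, ha, hb⟩ := h.exists_crossing hv
  have h' : Spans ends (T.erase e) (insert a S) := (spans_insert hab hb).1 (by rwa [insert_erase he])
  have := ih _ (card_erase_lt_of_mem he) h' rfl
  rw [card_insert_of_notMem ha, card_erase_of_mem he] at this
  have : 0 < T.card := card_pos.2 ⟨e, he⟩
  omega

/-! ### the matrix-tree theorem -/

variable (ends) {R : Type*} [CommRing R] [IsDomain R] (w : E → R)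

/-- signed incidence -/
def inc (e : E) (i : V) : R := (if (ends e).1 = i then 1 else 0) - (if (ends e).2 = i then 1 else 0)

/-- weighted Laplacian -/
def lap (F : Finset E) (i j : V) : R := ∑ e ∈ F, w e * inc ends e i * inc ends e j

/-- reduced Laplacian -/
def red (F : Finset E) (S : Finset V) : Matrix V V R :=
  Matrix.of fun i j => if i ∈ S ∨ j ∈ S then (if i = j then 1 else 0) else lap ends w F i j

lemma red_step {F : Finset E} {S : Finset V} {e : E} (he : e ∉ F) {a b : V}
    (hab : ends e = (a, b) ∨ ends e = (b, a)) (ha : a ∉ S) (hb : b ∈ S) :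
    (red ends w (insert e F) S).det = (red ends w F S).det + w e * (red ends w F (insert a S)).det := by
  classical
  have key : red ends w (insert e F) S =
      (red ends w F S).updateRow a (red ends w F S a + w e • Pi.single a 1) := by
    ext i j
    by_cases hj : j ∈ S
    · have hja : j ≠ a := fun h => ha (h ▸ hj)
      rw [Matrix.updateRow_apply]
      split_ifs with hia
      · subst hia; simp [red, hj, Pi.single_apply, hja]
      · simp [red, hj]
    by_cases hi : i ∈ S
    · rw [Matrix.updateRow_apply, if_neg (fun h : i = a => ha (h ▸ hi))]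
      simp [red, hi]
    have hlap : lap ends w (insert e F) i j = w e * inc ends e i * inc ends e j + lap ends w F i j :=
      sum_insert he
    have hbi : b ≠ i := fun h => hi (h ▸ hb)
    have hbj : b ≠ j := fun h => hj (h ▸ hb)
    have hinc : w e * inc ends e i * inc ends e j =
        (if a = i then (if a = j then w e else 0) else 0) := by
      rcases hab with h | h <;> simp only [inc, h, if_neg hbi, if_neg hbj] <;>
        by_cases h1 : a = i <;> by_cases h2 : a = j <;> subst_vars <;> simp [*]
    rw [Matrix.updateRow_apply]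
    split_ifs with hia
    · subst hia
      simp only [red, Matrix.of_apply, hi, hj, or_self, if_false, hlap, hinc, if_true, Pi.add_apply,
        Pi.smul_apply, Pi.single_apply, smul_eq_mul, mul_ite, mul_one, mul_zero]
      simp [eq_comm, add_comm]
    · simp only [red, Matrix.of_apply, hi, hj, or_self, if_false, hlap, hinc, if_neg (Ne.symm hia), zero_add]
  rw [key, Matrix.det_updateRow_add, Matrix.updateRow_eq_self, Matrix.det_updateRow_smul]
  congr 2
  refine Matrix.det_eq_of_forall_row_eq_smul_add_const
    (fun i => if i = a then 0 else red ends w F S i a) a (if_pos rfl) fun i j => ?_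
  rw [Matrix.updateRow_apply]
  by_cases hia : i = a
  · subst hia
    simp [red, Pi.single_apply, eq_comm]
  rw [if_neg hia, if_neg hia]
  by_cases hj : j = a
  · subst hj
    simp [red, hia]
  · simp [red, hia, hj, Ne.symm hj]

lemma inc_sum_compl {S : Finset V} {e : E} (h : (ends e).1 ∈ S ↔ (ends e).2 ∈ S) :
    (∑ j, if j ∈ S then (0 : R) else inc ends e j) = 0 := by
  have e1 : ∀ j, (if j ∈ S then (0 : R) else inc ends e j) =
      (if (ends e).1 = j then (if (ends e).1 ∈ S then 0 else 1) else 0) -
      (if (ends e).2 = j then (if (ends e).2 ∈ S then 0 else 1) else 0) := by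
    intro j
    unfold inc
    split_ifs <;> simp_all
  simp only [e1, sum_sub_distrib, sum_ite_eq, mem_univ, if_true, h, sub_self]

lemma red_det_zero {F : Finset E} {S : Finset V} {v : V} (hv : v ∉ S)
    (h : ∀ e ∈ F, (ends e).1 ∈ S ↔ (ends e).2 ∈ S) : (red ends w F S).det = 0 := by
  rw [← Matrix.exists_mulVec_eq_zero_iff]
  refine ⟨fun j => if j ∈ S then 0 else 1, fun hc => by simpa [hv] using congrFun hc v, funext fun i => ?_⟩
  rw [Matrix.mulVec, dotProduct, Pi.zero_apply]
  by_cases hi : i ∈ S
  · refine sum_eq_zero fun j _ => ?_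
    by_cases hj : j ∈ S
    · simp [hj]
    · simp [red, hi, show i ≠ j from fun h => hj (h ▸ hi)]
  calc ∑ j, red ends w F S i j * (if j ∈ S then 0 else 1)
      = ∑ j, ∑ e ∈ F, w e * inc ends e i * (if j ∈ S then 0 else inc ends e j) := by
        refine sum_congr rfl fun j _ => ?_
        by_cases hj : j ∈ S <;> simp [red, lap, hi, hj]
    _ = 0 := by
        rw [sum_comm]
        exact sum_eq_zero fun e he => by rw [← mul_sum, inc_sum_compl ends (h e he), mul_zero]

open Classical in
theorem det_red (F : Finset E) (S : Finset V) :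
    (red ends w F S).det = ∑ T ∈ F.powerset.filter (fun T => Good ends T S), ∏ e ∈ T, w e := by
  induction hn : F.card using Nat.strong_induction_on generalizing F S with
  | _ n ih =>
  subst hn
  by_cases hS : S = univ
  · subst hS
    rw [show red ends w F univ = 1 by ext i j; simp [red, Matrix.one_apply], Matrix.det_one,
      show F.powerset.filter (fun T => Good ends T univ) = {∅} from ?_, sum_singleton, prod_empty]
    ext T
    rw [Finset.mem_filter, mem_powerset, mem_singleton, Good, card_univ]
    constructor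
    · rintro ⟨-, -, h⟩; exact card_eq_zero.1 (by omega)
    · rintro rfl; exact ⟨empty_subset _, fun v => ⟨v, mem_univ _, .refl⟩, by simp⟩
  obtain ⟨v, hv⟩ : ∃ v, v ∉ S := by
    by_contra hc; push Not at hc; exact hS (eq_univ_iff_forall.2 hc)
  by_cases hc : ∀ e ∈ F, (ends e).1 ∈ S ↔ (ends e).2 ∈ S
  · rw [red_det_zero ends w hv hc, eq_comm]
    refine sum_eq_zero fun T hT => ?_
    rw [mem_filter, mem_powerset] at hT
    obtain ⟨e, he, a, b, hab, ha, hb⟩ := hT.2.1.exists_crossing hv
    have := hc e (hT.1 he)
    rcases hab with h | h <;> simp [h, ha, hb] at this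
  · obtain ⟨e, he, a, b, hab, ha, hb⟩ :
        ∃ e ∈ F, ∃ a b, (ends e = (a, b) ∨ ends e = (b, a)) ∧ a ∉ S ∧ b ∈ S := by
      push Not at hc
      obtain ⟨e, he, h⟩ := hc
      rcases h with ⟨h1, h2⟩ | ⟨h1, h2⟩
      · exact ⟨e, he, _, _, Or.inr rfl, h2, h1⟩
      · exact ⟨e, he, _, _, Or.inl rfl, h1, h2⟩
    obtain ⟨F', he', rfl⟩ : ∃ F', e ∉ F' ∧ F = insert e F' :=
      ⟨F.erase e, notMem_erase e F, (insert_erase he).symm⟩
    have hlt : F'.card < (insert e F').card := by simp [he']
    rw [red_step ends w he' hab ha hb, ih _ hlt F' S rfl, ih _ hlt F' (insert a S) rfl]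
    simp only [sum_filter]
    rw [sum_powerset_insert he', mul_sum]
    congr 1
    refine sum_congr rfl fun T hT => ?_
    have heT : e ∉ T := fun h => he' (mem_powerset.1 hT h)
    have hiff : Good ends (insert e T) S ↔ Good ends T (insert a S) := by
      rw [Good, Good, spans_insert hab hb, card_insert_of_notMem heT, card_insert_of_notMem ha,
        show T.card + 1 + S.card = T.card + (S.card + 1) by omega]
    rw [mul_ite, mul_zero, prod_insert heT]
    exact if_congr hiff.symm rfl rfl

/-! ### spanning trees -/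

variable {ends}

omit [Fintype E] [DecidableEq E] [Fintype V] in
lemma endCount_map (T : Finset E) (C : Finset T) (v : V) :
    LabGraph.endCount (fun e : T => ends e.1) C v =
      LabGraph.endCount ends (C.map (Function.Embedding.subtype _)) v := by
  rw [LabGraph.endCount, LabGraph.endCount, sum_map]; rfl

omit [Fintype E] in
lemma exists_circuit {C : Finset E} (hne : C.Nonempty) (hev : ∀ v, Even (LabGraph.endCount ends C v)) :
    ∃ C' ⊆ C, LabGraph.IsCircuit ends C' := by
  induction hn : C.card using Nat.strong_induction_on generalizing C with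
  | _ n ih =>
  subst hn
  by_cases h : ∃ C' ⊂ C, C'.Nonempty ∧ ∀ v, Even (LabGraph.endCount ends C' v)
  · obtain ⟨C', hC', hne', hev'⟩ := h
    obtain ⟨C'', h1, h2⟩ := ih _ (card_lt_card hC') hne' hev' rfl
    exact ⟨C'', h1.trans hC'.subset, h2⟩
  · push Not at h
    exact ⟨C, Subset.rfl, hne, hev, h⟩

lemma isForest_iff (T : Finset E) : DualGr.IsForest (fun e : T => ends e.1) ↔ Acyc ends T := by
  constructor
  · intro h C hCT hne
    by_contra hc
    push Not at hc
    have hmap : (C.subtype (· ∈ T)).map (Function.Embedding.subtype _) = C := subtype_map_of_mem hCT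
    obtain ⟨C', -, hC'⟩ := exists_circuit (ends := fun e : T => ends e.1) (C := C.subtype (· ∈ T))
      (by rw [← map_nonempty (f := Function.Embedding.subtype _), hmap]; exact hne)
      (fun v => by rw [endCount_map, hmap]; exact hc v)
    exact h C' hC'
  · intro h C hC
    obtain ⟨v, hv⟩ := h (C.map (Function.Embedding.subtype _))
      (fun x hx => by obtain ⟨y, -, rfl⟩ := mem_map.1 hx; exact y.2) hC.1.map
    exact hv (endCount_map T C v ▸ hC.2.1 v)

lemma rtg_sub (T : Finset E) (v w : V) :
    Relation.ReflTransGen (LabGraph.Adj (fun e : T => ends e.1)) v w ↔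
      Relation.ReflTransGen (AdjT ends T) v w :=
  ⟨fun h => Relation.ReflTransGen.mono (fun _ _ ⟨e, he⟩ => ⟨e.1, e.2, he⟩) _ _ h,
    fun h => Relation.ReflTransGen.mono (fun _ _ ⟨e, heT, he⟩ => ⟨⟨e, heT⟩, he⟩) _ _ h⟩

lemma connected_iff (T : Finset E) (r : V) :
    LabGraph.Connected (fun e : T => ends e.1) ↔ Spans ends T {r} := by
  constructor
  · exact fun h v => ⟨r, mem_singleton_self r, (rtg_sub T v r).1 (h.2 v r)⟩
  · refine fun h => ⟨⟨r⟩, fun v w => (rtg_sub T v w).2 ?_⟩
    obtain ⟨s, hs, h1⟩ := h v
    obtain ⟨s', hs', h2⟩ := h w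
    rw [mem_singleton] at hs hs'
    subst hs; subst hs'
    exact h1.trans (rtg_symm h2)

omit [Fintype E] [DecidableEq E] in
lemma sum_endCount (C : Finset E) (X : Finset V) :
    ∑ v ∈ X, LabGraph.endCount ends C v =
      ∑ e ∈ C, ((if (ends e).1 ∈ X then 1 else 0) + (if (ends e).2 ∈ X then 1 else 0)) := by
  simp only [LabGraph.endCount]
  rw [sum_comm]
  refine sum_congr rfl fun e _ => ?_
  rw [sum_add_distrib, sum_ite_eq, sum_ite_eq]

lemma spans_erase {T C : Finset E} {S : Finset V} (h : Spans ends T S) (hCT : C ⊆ T) {e : E} (he : e ∈ C)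
    (hev : ∀ v, Even (LabGraph.endCount ends C v)) : Spans ends (T.erase e) S := by
  classical
  have hconn : Relation.ReflTransGen (AdjT ends (T.erase e)) (ends e).1 (ends e).2 := by
    by_contra hb
    set X : Finset V := univ.filter fun v => Relation.ReflTransGen (AdjT ends (T.erase e)) (ends e).1 v with hX
    have h1 : (ends e).1 ∈ X := by simp [hX, Relation.ReflTransGen.refl]
    have h2 : (ends e).2 ∉ X := by simpa [hX] using hb
    have hcl : ∀ e' ∈ C.erase e, ((ends e').1 ∈ X ↔ (ends e').2 ∈ X) := by
      intro e' he'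
      have : e' ∈ T.erase e := mem_erase.2 ⟨(mem_erase.1 he').1, hCT (mem_erase.1 he').2⟩
      simp only [hX, mem_filter, mem_univ, true_and]
      exact ⟨fun h => h.tail ⟨e', this, Or.inl rfl⟩, fun h => h.tail ⟨e', this, Or.inr rfl⟩⟩
    have := Finset.even_sum (s := X) _ fun v _ => hev v
    rw [sum_endCount, ← add_sum_erase _ _ he, if_pos h1, if_neg h2] at this
    have heven : Even (∑ x ∈ C.erase e, ((if (ends x).1 ∈ X then 1 else 0) + (if (ends x).2 ∈ X then 1 else 0))) :=
      Finset.even_sum _ fun x hx => by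
        by_cases hx1 : (ends x).1 ∈ X
        · simp [hx1, (hcl x hx).1 hx1]
        · simp [hx1, mt (hcl x hx).2 hx1]
    rw [Nat.even_add] at this
    simp [heven] at this
  intro v
  obtain ⟨s, hs, hp⟩ := h v
  refine ⟨s, hs, ?_⟩
  clear hs
  induction hp with
  | refl => exact .refl
  | @tail x y _ hxy ih =>
    refine ih.trans ?_
    obtain ⟨e', he', hxy⟩ := hxy
    by_cases hee : e' = e
    · subst hee
      rcases hxy with h | h <;> rw [h] at hconn
      · exact hconn
      · exact rtg_symm hconn
    · exact .single ⟨e', mem_erase.2 ⟨hee, he'⟩, hxy⟩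

lemma Good.acyc {T : Finset E} {S : Finset V} (h : Good ends T S) : Acyc ends T := by
  intro C hCT hne
  by_contra hc
  push Not at hc
  obtain ⟨e, he⟩ := hne
  have := (spans_erase h.1 hCT he hc).card_le
  rw [card_erase_of_mem (hCT he)] at this
  have : 0 < T.card := card_pos.2 ⟨e, hCT he⟩
  have := h.2
  omega

lemma Acyc.card_lt {T : Finset E} (h : Acyc ends T) (r : V) : T.card + 1 ≤ Fintype.card V := by
  classical
  have hle : T.powerset.card ≤ (univ.erase r).powerset.card := by
    refine card_le_card_of_injOn (fun C => (univ.erase r).filter fun v => ¬ Even (LabGraph.endCount ends C v))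
      (fun C _ => mem_powerset.2 (filter_subset _ _)) ?_
    intro C hC D hD hCD
    rw [mem_coe, mem_powerset] at hC hD
    by_contra hne
    have hsplit : ∀ v, LabGraph.endCount ends C v + LabGraph.endCount ends D v =
        LabGraph.endCount ends (C \ D ∪ D \ C) v + 2 * LabGraph.endCount ends (C ∩ D) v := by
      intro v
      simp only [LabGraph.endCount]
      rw [sum_union disjoint_sdiff_sdiff,
        ← sum_sdiff (inter_subset_left : C ∩ D ⊆ C), ← sum_sdiff (inter_subset_right : C ∩ D ⊆ D),
        sdiff_inter_self_left, sdiff_inter_self_right]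
      ring
    have hsame : ∀ v, v ≠ r → (Even (LabGraph.endCount ends C v) ↔ Even (LabGraph.endCount ends D v)) := by
      intro v hv
      have := Finset.ext_iff.1 hCD v
      simp only [mem_filter, mem_erase, mem_univ, and_true, ne_eq, hv, not_false_eq_true, true_and, not_iff_not] at this
      exact this
    have hout : ∀ v, v ≠ r → Even (LabGraph.endCount ends (C \ D ∪ D \ C) v) := by
      intro v hv
      have h1 : Even (LabGraph.endCount ends C v + LabGraph.endCount ends D v) := Nat.even_add.2 (hsame v hv)
      rw [hsplit v, Nat.even_add] at h1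
      exact h1.2 (even_two_mul _)
    have hr : Even (LabGraph.endCount ends (C \ D ∪ D \ C) r) := by
      have h1 : Even (∑ v, LabGraph.endCount ends (C \ D ∪ D \ C) v) := by
        rw [sum_endCount]
        exact Finset.even_sum _ fun e _ => by simp
      rw [← add_sum_erase _ _ (mem_univ r), Nat.even_add] at h1
      exact h1.2 (Finset.even_sum _ fun v hv => hout v (mem_erase.1 hv).1)
    have hne' : (C \ D ∪ D \ C).Nonempty := by
      rw [nonempty_iff_ne_empty]
      intro he
      simp only [union_eq_empty, sdiff_eq_empty_iff_subset] at he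
      exact hne (Subset.antisymm he.1 he.2)
    obtain ⟨v, hv⟩ := h _ (union_subset (sdiff_subset.trans hC) (sdiff_subset.trans hD)) hne'
    rcases eq_or_ne v r with rfl | hvr
    · exact hv hr
    · exact hv (hout v hvr)
  rw [card_powerset, card_powerset, Nat.pow_le_pow_iff_right (by norm_num), card_erase_of_mem (mem_univ r),
    card_univ] at hle
  have : 0 < Fintype.card V := Fintype.card_pos_iff.2 ⟨r⟩
  omega

lemma isSpanningTree_iff (T : Finset E) (r : V) : LabGraph.IsSpanningTree ends T ↔ Good ends T {r} := by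
  rw [LabGraph.IsSpanningTree, DualGr.IsTree, connected_iff T r, isForest_iff]
  refine ⟨fun ⟨h1, h2⟩ => ⟨h1, ?_⟩, fun h => ⟨h.1, h.acyc⟩⟩
  have h3 := h1.card_le
  have h4 := h2.card_lt r
  rw [card_singleton] at h3 ⊢
  omega

lemma Spans.exists_good {T : Finset E} {r : V} (h : Spans ends T {r}) : ∃ T' ⊆ T, Good ends T' {r} := by
  induction hn : T.card using Nat.strong_induction_on generalizing T with
  | _ n ih =>
  subst hn
  by_cases ha : Acyc ends T
  · have h3 := h.card_le
    have h4 := ha.card_lt r
    rw [card_singleton] at h3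
    exact ⟨T, Subset.rfl, h, by rw [card_singleton]; omega⟩
  · simp only [Acyc] at ha
    push Not at ha
    obtain ⟨C, hCT, ⟨e, he⟩, hev⟩ := ha
    obtain ⟨T', h1, h2⟩ := ih _ (card_erase_lt_of_mem (hCT he)) (spans_erase h hCT he hev) rfl
    exact ⟨T', h1.trans (erase_subset _ _), h2⟩

lemma exists_isSpanningTree (hG : LabGraph.Connected ends) : ∃ T : Finset E, LabGraph.IsSpanningTree ends T := by
  obtain ⟨r⟩ := hG.1
  have h : Spans ends (univ : Finset E) {r} := fun v =>
    ⟨r, mem_singleton_self r, Relation.ReflTransGen.mono (fun _ _ ⟨e, he⟩ => ⟨e, mem_univ e, he⟩) _ _ (hG.2 v r)⟩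
  obtain ⟨T, -, hT⟩ := h.exists_good
  exact ⟨T, (isSpanningTree_iff T r).2 hT⟩

lemma nbrCount_eq_endCount {T : Finset E} (h : Acyc ends T) (v : V) :
    LabGraph.nbrCount ends T v = LabGraph.endCount ends T v := by
  classical
  have hloop : ∀ e ∈ T, (ends e).1 ≠ (ends e).2 := by
    intro e he heq
    obtain ⟨u, hu⟩ := h {e} (singleton_subset_iff.2 he) ⟨e, mem_singleton_self e⟩
    apply hu
    simp [LabGraph.endCount, heq]
  have hend : LabGraph.endCount ends T v = (T.filter fun e => (ends e).1 = v ∨ (ends e).2 = v).card := by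
    rw [card_filter, LabGraph.endCount]
    refine sum_congr rfl fun e he => ?_
    have := hloop e he
    split_ifs <;> simp_all
  rw [hend, LabGraph.nbrCount, eq_comm]
  refine card_bij (fun e _ => if (ends e).1 = v then (ends e).2 else (ends e).1) ?_ ?_ ?_
  · intro e he
    rw [mem_filter] at he
    refine mem_filter.2 ⟨mem_univ _, ?_⟩
    rcases he.2 with h1 | h1
    · rw [if_pos h1]
      exact ⟨fun h2 => hloop e he.1 (h1.trans h2.symm), e, he.1, Or.inl (Prod.ext h1 rfl)⟩
    · have h2 : (ends e).1 ≠ v := fun h2 => hloop e he.1 (h2.trans h1.symm)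
      rw [if_neg h2]
      exact ⟨h2, e, he.1, Or.inr (Prod.ext rfl h1)⟩
  · intro e he e' he' heq
    rw [mem_filter] at he he'
    by_contra hne
    obtain ⟨u, hu⟩ := h {e, e'} (by simp [insert_subset_iff, he.1, he'.1]) ⟨e, mem_insert_self _ _⟩
    apply hu
    simp only [LabGraph.endCount, sum_pair hne]
    have h0 := hloop e he.1
    have h0' := hloop e' he'.1
    rcases he.2 with h1 | h1 <;> rcases he'.2 with h1' | h1'
    all_goals
      split_ifs at heq <;> simp_all [Nat.even_add] <;> grind
  · intro u hu
    obtain ⟨huv, e, he, h1 | h1⟩ := (mem_filter.1 hu).2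
    · exact ⟨e, mem_filter.2 ⟨he, Or.inl (by rw [h1])⟩, by simp [h1]⟩
    · exact ⟨e, mem_filter.2 ⟨he, Or.inr (by rw [h1])⟩, by simp [h1, huv]⟩

end Groth.Agent.GraphLib
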